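import Mathlib
import Cfsg.Agent.Lib.Solvable.Schmidt

/-!
Tools for coverings of projective linear groups by nilpotent subgroups.
-/

set_option autoImplicit false

open Matrix

namespace Cfsg.Agent.Lib.LinCover

variable {F : Type*} [Field F] {n : ℕ}

/-- The stabiliser of the line through `v`. -/
def lineStab [Finite F] (v : Fin n → F) : Subgroup (GL (Fin n) F) :=
  ofClosed {g | ∃ c : F, c ≠ 0 ∧ (g : Matrix (Fin n) (Fin n) F) *ᵥ v = c • v}
    ⟨1, 1, one_ne_zero, by simp⟩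
    (by
      rintro a b ⟨c, hc, ha⟩ ⟨d, hd, hb⟩
      refine ⟨d * c, mul_ne_zero hd hc, ?_⟩
      rw [Units.val_mul, ← mulVec_mulVec, hb, mulVec_smul, ha, smul_smul])
where
  /-- A product-closed nonempty subset of a finite group is a subgroup. -/
  ofClosed {X : Type _} [Group X] [Finite X] (s : Set X) (h1 : s.Nonempty)
      (hm : ∀ a b, a ∈ s → b ∈ s → a * b ∈ s) : Subgroup X :=
    { carrier := s
      mul_mem' := fun {a b} ha hb => hm a b ha hb
      one_mem' := by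
        obtain ⟨a, ha⟩ := h1
        have h : ∀ i : ℕ, a ^ (i + 1) ∈ s := fun i => by
          induction i with
          | zero => simpa using ha
          | succ i ih => rw [pow_succ]; exact hm _ _ ih ha
        have := h (orderOf a - 1)
        rwa [Nat.sub_add_cancel (orderOf_pos a), pow_orderOf_eq_one] at this
      inv_mem' := fun {a} ha => by
        have h : ∀ i : ℕ, a ^ (i + 1) ∈ s := fun i => by
          induction i with
          | zero => simpa using ha
          | succ i ih => rw [pow_succ]; exact hm _ _ ih ha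
        rcases Nat.lt_or_ge (orderOf a) 2 with h2 | h2
        · have h3 : orderOf a = 1 := by have := orderOf_pos a; omega
          rw [orderOf_eq_one_iff] at h3
          subst h3
          simpa using ha
        · have e : a⁻¹ = a ^ (orderOf a - 2 + 1) := by
            rw [inv_eq_iff_mul_eq_one, ← pow_succ', show orderOf a - 2 + 1 + 1 = orderOf a by omega,
              pow_orderOf_eq_one]
          rw [e]; exact h _ }

theorem mem_lineStab [Finite F] {v : Fin n → F} {g : GL (Fin n) F} :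
    g ∈ lineStab v ↔ ∃ c : F, c ≠ 0 ∧ (g : Matrix (Fin n) (Fin n) F) *ᵥ v = c • v := Iff.rfl

theorem mulVec_ne_zero (g : GL (Fin n) F) {v : Fin n → F} (hv : v ≠ 0) :
    (g : Matrix (Fin n) (Fin n) F) *ᵥ v ≠ 0 := by
  intro h
  have := congrArg ((g⁻¹ : GL (Fin n) F).val *ᵥ ·) h
  simp only [mulVec_mulVec, ← Units.val_mul, inv_mul_cancel, Units.val_one, one_mulVec,
    mulVec_zero] at this
  exact hv this

theorem mem_lineStab_of_eq [Finite F] {v : Fin n → F} (hv : v ≠ 0) {g : GL (Fin n) F} {c : F}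
    (h : (g : Matrix (Fin n) (Fin n) F) *ᵥ v = c • v) : g ∈ lineStab v :=
  ⟨c, fun h0 => mulVec_ne_zero g hv (by rw [h, h0, zero_smul]), h⟩

theorem center_le_lineStab [Finite F] (v : Fin n → F) :
    Subgroup.center (GL (Fin n) F) ≤ lineStab v := by
  intro z hz
  rw [Matrix.GeneralLinearGroup.center_eq_range_scalar] at hz
  obtain ⟨c, rfl⟩ := hz
  refine ⟨(c : F), c.ne_zero, ?_⟩
  ext i
  simp [Matrix.GeneralLinearGroup.scalar, mulVec_diagonal]

/-- The action on vectors. -/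
@[reducible] def vecAction : MulAction (GL (Fin n) F) (Fin n → F) where
  smul g v := (g : Matrix (Fin n) (Fin n) F) *ᵥ v
  one_smul v := by show (1 : Matrix (Fin n) (Fin n) F) *ᵥ v = v; simp
  mul_smul g h v := by
    show ((g * h : GL (Fin n) F) : Matrix (Fin n) (Fin n) F) *ᵥ v = _
    rw [Units.val_mul, ← mulVec_mulVec]; rfl

/-- A `p`-group fixes a vector outside an invariant proper subspace modulo that subspace. -/
theorem exists_fixed_mod [Finite F] {p : ℕ} [Fact p.Prime] [CharP F p]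
    (P : Subgroup (GL (Fin n) F)) (hP : IsPGroup p P) (L : Submodule F (Fin n → F))
    (hL : ∀ h ∈ P, ∀ w ∈ L, (h : Matrix (Fin n) (Fin n) F) *ᵥ w ∈ L) (hLt : L ≠ ⊤) :
    ∃ w, w ∉ L ∧ ∀ h ∈ P, (h : Matrix (Fin n) (Fin n) F) *ᵥ w - w ∈ L := by
  classical
  have hL' : ∀ (h : P), L ≤ L.comap (Matrix.mulVecLin (h : GL (Fin n) F).val) :=
    fun h w hw => by simpa using hL h h.2 w hw
  letI : MulAction P ((Fin n → F) ⧸ L) :=
    { smul := fun h x => L.mapQ L (Matrix.mulVecLin (h : GL (Fin n) F).val) (hL' h) x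
      one_smul := fun x => by
        induction x using Submodule.Quotient.induction_on with
        | H w =>
          show Submodule.Quotient.mk (Matrix.mulVecLin _ w) = _
          simp
      mul_smul := fun a b x => by
        induction x using Submodule.Quotient.induction_on with
        | H w =>
          show Submodule.Quotient.mk (Matrix.mulVecLin _ w) =
            Submodule.Quotient.mk (Matrix.mulVecLin _ (Matrix.mulVecLin _ w))
          simp [mulVec_mulVec] }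
  have hdvd : p ∣ Nat.card ((Fin n → F) ⧸ L) := by
    haveI : Nontrivial ((Fin n → F) ⧸ L) := Submodule.Quotient.nontrivial_iff.mpr hLt
    obtain ⟨x, hx⟩ := exists_ne (0 : (Fin n → F) ⧸ L)
    have hord : addOrderOf x = p :=
      addOrderOf_eq_prime (by rw [← Nat.cast_smul_eq_nsmul F, CharP.cast_eq_zero, zero_smul]) hx
    exact hord ▸ addOrderOf_dvd_natCard x
  have hzero : (0 : (Fin n → F) ⧸ L) ∈ MulAction.fixedPoints P ((Fin n → F) ⧸ L) := fun h => by
    show L.mapQ L _ _ 0 = 0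
    simp
  haveI : Finite ((Fin n → F) ⧸ L) := Quotient.finite _
  obtain ⟨x, hx, hx0⟩ := hP.exists_fixed_point_of_prime_dvd_card_of_fixed_point
    ((Fin n → F) ⧸ L) hdvd hzero
  induction x using Submodule.Quotient.induction_on with
  | H w =>
    refine ⟨w, fun hw => hx0 ((Submodule.Quotient.mk_eq_zero L).mpr hw).symm, fun h hh => ?_⟩
    have h1 : Submodule.Quotient.mk (Matrix.mulVecLin (h : GL (Fin n) F).val w) =
      (Submodule.Quotient.mk w : (Fin n → F) ⧸ L) := hx ⟨h, hh⟩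
    simpa using (Submodule.Quotient.eq L).mp h1

/-- The Sylow subgroup of a nilpotent subgroup, as a subgroup of the big group. -/
theorem exists_sylow_of_isNilpotent {Γ : Type*} [Group Γ] [Finite Γ] (X : Subgroup Γ)
    [Group.IsNilpotent X] (p : ℕ) [Fact p.Prime] :
    ∃ P : Subgroup Γ, P ≤ X ∧ IsPGroup p P ∧ (∀ x ∈ X, ∀ y ∈ P, x * y * x⁻¹ ∈ P) ∧
      ∀ u ∈ X, (∃ k : ℕ, u ^ p ^ k = 1) → u ∈ P := by
  obtain ⟨S⟩ : Nonempty (Sylow p X) := inferInstance
  have hS : (S : Subgroup X).Normal :=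
    Sylow.normal_of_normalizerCondition Group.normalizerCondition_of_isNilpotent S
  refine ⟨(S : Subgroup X).map X.subtype, Subgroup.map_subtype_le _, S.2.map _, ?_, ?_⟩
  · rintro x hx _ ⟨y, hy, rfl⟩
    exact ⟨_, hS.conj_mem y hy ⟨x, hx⟩, rfl⟩
  · rintro u hu ⟨k, hk⟩
    have hz : IsPGroup p (Subgroup.zpowers (⟨u, hu⟩ : X)) := by
      obtain ⟨j, -, hj⟩ := (Nat.dvd_prime_pow (Fact.out : p.Prime)).mp
        (orderOf_dvd_of_pow_eq_one (x := (⟨u, hu⟩ : X)) (n := p ^ k) (Subtype.ext (by simpa using hk)))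
      exact IsPGroup.of_card ((Nat.card_zpowers _).trans hj)
    obtain ⟨S', hS'⟩ := hz.exists_le_sylow
    haveI := Sylow.unique_of_normal S hS
    rw [Subsingleton.elim S' S] at hS'
    exact ⟨⟨u, hu⟩, hS' (Subgroup.mem_zpowers _), rfl⟩

/-- Coprime prime power elements of a nilpotent subgroup commute. -/
theorem commute_of_isNilpotent {Γ : Type*} [Group Γ] [Finite Γ] (X : Subgroup Γ)
    [Group.IsNilpotent X] {p q : ℕ} [hp : Fact p.Prime] [hq : Fact q.Prime] (hpq : p ≠ q) {x y : Γ}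
    (hx : x ∈ X) (hy : y ∈ X) (hxp : ∃ k : ℕ, x ^ p ^ k = 1) (hyq : ∃ k : ℕ, y ^ q ^ k = 1) :
    x * y = y * x := by
  have h : ∀ {r : ℕ} [Fact r.Prime] {z : Γ} (hz : z ∈ X), (∃ k : ℕ, z ^ r ^ k = 1) →
      IsPGroup r (Subgroup.zpowers (⟨z, hz⟩ : X)) := by
    intro r _ z hz ⟨k, hk⟩
    obtain ⟨j, -, hj⟩ := (Nat.dvd_prime_pow (Fact.out : r.Prime)).mp
      (orderOf_dvd_of_pow_eq_one (x := (⟨z, hz⟩ : X)) (n := r ^ k) (Subtype.ext (by simpa using hk)))
    exact IsPGroup.of_card ((Nat.card_zpowers _).trans hj)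
  have := Subgroup.mem_centralizer_iff.mp
    (Solvable.Schmidt.commute_of_coprime_orderOf hpq (h hx hxp) (h hy hyq) (Subgroup.mem_zpowers _))
    _ (Subgroup.mem_zpowers _)
  exact (congrArg Subtype.val this).symm

/-- A nilpotent group containing a unipotent with a single fixed line stabilises that line. -/
theorem le_lineStab_of_unipotent [Finite F] {p : ℕ} [Fact p.Prime] [CharP F p]
    (X : Subgroup (GL (Fin n) F)) [Group.IsNilpotent X] {u : GL (Fin n) F} (hu : u ∈ X)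
    (hup : ∃ k : ℕ, u ^ p ^ k = 1) {v : Fin n → F} (hv : v ≠ 0)
    (hfix : ∀ w, (u : Matrix (Fin n) (Fin n) F) *ᵥ w = w → w ∈ F ∙ v) : X ≤ lineStab v := by
  obtain ⟨P, hPX, hP, hPn, hPmem⟩ := exists_sylow_of_isNilpotent X p
  haveI : Nontrivial (Fin n → F) := nontrivial_of_ne v 0 hv
  obtain ⟨w, hw, hwfix⟩ := exists_fixed_mod P hP ⊥
    (fun h _ x hx => by simp [(Submodule.mem_bot F).mp hx]) bot_ne_top
  have hwP : ∀ h ∈ P, (h : Matrix (Fin n) (Fin n) F) *ᵥ w = w := fun h hh => by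
    simpa [sub_eq_zero] using hwfix h hh
  obtain ⟨c, hc⟩ := Submodule.mem_span_singleton.mp (hfix w (hwP u (hPmem u hu hup)))
  have hc0 : c ≠ 0 := fun h => hw (by rw [← hc, h, zero_smul]; exact zero_mem _)
  intro g hg
  have hgw : ∀ h ∈ P, (h : Matrix (Fin n) (Fin n) F) *ᵥ ((g : Matrix (Fin n) (Fin n) F) *ᵥ w) =
      (g : Matrix (Fin n) (Fin n) F) *ᵥ w := by
    intro h hh
    have h2 := hPn g⁻¹ (inv_mem hg) h hh
    rw [inv_inv] at h2
    have : h * g = g * (g⁻¹ * h * g) := by group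
    rw [mulVec_mulVec, ← Units.val_mul, this, Units.val_mul, ← mulVec_mulVec, hwP _ h2]
  obtain ⟨d, hd⟩ := Submodule.mem_span_singleton.mp (hfix _ (hgw u (hPmem u hu hup)))
  refine mem_lineStab_of_eq hv (c := c⁻¹ * d) ?_
  rw [← hc, mulVec_smul] at hd
  calc (g : Matrix (Fin n) (Fin n) F) *ᵥ v = c⁻¹ • (c • ((g : Matrix (Fin n) (Fin n) F) *ᵥ v)) := by
        rw [smul_smul, inv_mul_cancel₀ hc0, one_smul]
    _ = _ := by rw [← hd, smul_smul]

/-- Two regular unipotents of a nilpotent group with the same fixed line share the fixed plane. -/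
theorem exists_common_plane [Finite F] {p : ℕ} [Fact p.Prime] [CharP F p]
    (X : Subgroup (GL (Fin n) F)) [Group.IsNilpotent X] {u u' : GL (Fin n) F} (hu : u ∈ X)
    (hu' : u' ∈ X) (hup : ∃ k : ℕ, u ^ p ^ k = 1) (hup' : ∃ k : ℕ, u' ^ p ^ k = 1)
    {v : Fin n → F} (hL : F ∙ v ≠ ⊤) (hX : X ≤ lineStab v) :
    ∃ w, w ∉ F ∙ v ∧ (u : Matrix (Fin n) (Fin n) F) *ᵥ w - w ∈ F ∙ v ∧
      (u' : Matrix (Fin n) (Fin n) F) *ᵥ w - w ∈ F ∙ v := by
  obtain ⟨P, hPX, hP, -, hPmem⟩ := exists_sylow_of_isNilpotent X p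
  obtain ⟨w, hw, hwfix⟩ := exists_fixed_mod P hP (F ∙ v) (fun h hh x hx => by
    obtain ⟨a, rfl⟩ := Submodule.mem_span_singleton.mp hx
    obtain ⟨c, -, hc⟩ := hX (hPX hh)
    rw [mulVec_smul, hc, smul_smul]
    exact Submodule.smul_mem _ _ (Submodule.mem_span_singleton_self v)) hL
  exact ⟨w, hw, hwfix u (hPmem u hu hup), hwfix u' (hPmem u' hu' hup')⟩

/-- Replacing members of a cover of minimal size. -/
theorem false_of_small {G : Type*} [Group G] [DecidableEq (Subgroup G)] {𝓐 : Finset (Subgroup G)}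
    (hA : ∀ A ∈ 𝓐, A ≠ ⊤) (hcov : ∀ g : G, ∃ A ∈ 𝓐, g ∈ A)
    (hmin : ∀ 𝓑 : Finset (Subgroup G), (∀ A ∈ 𝓑, A ≠ ⊤) ∧ (∀ g : G, ∃ A ∈ 𝓑, g ∈ A) →
      𝓐.card ≤ 𝓑.card)
    {ι : Type*} [Fintype ι] (f : ι → Subgroup G) (hf : ∀ i, f i ∈ 𝓐) (hinj : Function.Injective f)
    (𝓒 : Finset (Subgroup G)) (hC : ∀ C ∈ 𝓒, C ≠ ⊤)
    (hcovC : ∀ i, ∀ g ∈ f i, ∃ C ∈ 𝓒, g ∈ C) (hlt : 𝓒.card < Fintype.card ι) : False := by
  let S := Finset.univ.image f
  have hS : S ⊆ 𝓐 := fun A hA' => by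
    obtain ⟨i, -, rfl⟩ := Finset.mem_image.mp hA'
    exact hf i
  have hcard : S.card = Fintype.card ι := Finset.card_image_of_injective _ hinj
  have h := hmin ((𝓐 \ S) ∪ 𝓒) ⟨fun A hA' => (Finset.mem_union.mp hA').elim
    (fun h => hA A (Finset.mem_sdiff.mp h).1) (hC A), fun g => by
      obtain ⟨A, hA', hg⟩ := hcov g
      by_cases hAS : A ∈ S
      · obtain ⟨i, -, rfl⟩ := Finset.mem_image.mp hAS
        obtain ⟨C, hC', hgC⟩ := hcovC i g hg
        exact ⟨C, Finset.mem_union_right _ hC', hgC⟩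
      · exact ⟨A, Finset.mem_union_left _ (Finset.mem_sdiff.mpr ⟨hA', hAS⟩), hg⟩⟩
  have h1 := Finset.card_union_le (𝓐 \ S) 𝓒
  have h2 := Finset.card_sdiff_add_card_eq_card hS
  omega

end Cfsg.Agent.Lib.LinCover
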