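import Cfsg.Prelude.Def_Transfer
import Mathlib
import Cfsg.Agent.Lib.LinCover.Basic

/-! Minimal nilpotent covers and abelian Sylow subgroups. -/

set_option autoImplicit false

namespace Cfsg.Agent.Lib.LinCover

/-- A nilpotent cover of minimal size of a group with trivial centre. -/
structure NilCover (G : Type*) [Group G] where
  𝓐 : Finset (Subgroup G)
  proper : ∀ A ∈ 𝓐, A ≠ ⊤
  cover : ∀ g : G, ∃ A ∈ 𝓐, g ∈ A
  minimal : ∀ 𝓑 : Finset (Subgroup G), (∀ A ∈ 𝓑, A ≠ ⊤) ∧ (∀ g : G, ∃ A ∈ 𝓑, g ∈ A) →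
    𝓐.card ≤ 𝓑.card
  nilpotent : ∀ A ∈ 𝓐, Group.IsNilpotent A
  center_eq : Subgroup.center G = ⊥

variable {G : Type*} [Group G] [Finite G] {p : ℕ} [Fact p.Prime] (S : NilCover G)

namespace NilCover

theorem abelian_sylow_le {P : Sylow p G} (hab : IsMulCommutative ↥(P : Subgroup G)) (Q : Sylow p G) :
    ∀ a ∈ (Q : Subgroup G), ∀ b ∈ (Q : Subgroup G), a * b = b * a := by
  haveI := hab
  haveI : IsMulCommutative ↥(Q : Subgroup G) :=
    ⟨⟨fun a b => (P.equiv Q).symm.injective (by rw [map_mul, map_mul]; exact hab.is_comm.comm _ _)⟩⟩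
  exact fun a ha b hb => congrArg Subtype.val (this.is_comm.comm ⟨a, ha⟩ ⟨b, hb⟩)

theorem member_le_centralizer {P : Sylow p G} (hab : IsMulCommutative ↥(P : Subgroup G))
    {A : Subgroup G} (hA : A ∈ S.𝓐) {z : G} (hzA : z ∈ A) (hzp : ∃ k : ℕ, z ^ p ^ k = 1) :
    A ≤ Subgroup.centralizer ({z} : Set G) := by
  haveI := S.nilpotent A hA
  set C := (Subgroup.centralizer ({z} : Set G)).subgroupOf A
  suffices C.index = 1 by exact Subgroup.subgroupOf_eq_top.mp (Subgroup.index_eq_one.mp this)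
  refine Nat.eq_one_iff_not_exists_prime_dvd.mpr fun q hq hdvd => ?_
  haveI := Fact.mk hq
  obtain ⟨T⟩ : Nonempty (Sylow q A) := inferInstance
  haveI hTn : (T : Subgroup A).Normal :=
    Sylow.normal_of_normalizerCondition Group.normalizerCondition_of_isNilpotent T
  refine T.not_dvd_index (hdvd.trans (Subgroup.index_dvd_of_le ?_))
  intro t ht
  show (t : G) ∈ Subgroup.centralizer ({z} : Set G)
  rw [Subgroup.mem_centralizer_singleton_iff]
  obtain ⟨k, hk⟩ := T.2 ⟨t, ht⟩
  have htq : ∃ k : ℕ, (t : G) ^ q ^ k = 1 := ⟨k, by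
    have := congrArg Subtype.val hk
    exact congrArg Subtype.val this⟩
  rcases eq_or_ne q p with rfl | hqp
  · obtain ⟨R, hRA, hRp, -, hR⟩ := exists_sylow_of_isNilpotent A q
    obtain ⟨Q, hQ⟩ := hRp.exists_le_sylow
    exact abelian_sylow_le hab Q _ (hQ (hR _ t.2 htq)) _ (hQ (hR _ hzA hzp))
  · exact commute_of_isNilpotent A hqp t.2 hzA htq hzp

theorem centralizer_ne_top (S : NilCover G) {z : G} (hz : z ≠ 1) : Subgroup.centralizer ({z} : Set G) ≠ ⊤ := by
  intro h
  refine hz (Subgroup.mem_bot.mp (S.center_eq ▸ Subgroup.mem_center_iff.mpr fun g => ?_))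
  exact Subgroup.mem_centralizer_singleton_iff.mp (h.symm ▸ Subgroup.mem_top g)

/-- A nontrivial `p`-element lies in only one member. -/
theorem member_unique {P : Sylow p G} (hab : IsMulCommutative ↥(P : Subgroup G))
    {A B : Subgroup G} (hA : A ∈ S.𝓐) (hB : B ∈ S.𝓐) {z : G} (hz : z ≠ 1)
    (hzp : ∃ k : ℕ, z ^ p ^ k = 1) (hzA : z ∈ A) (hzB : z ∈ B) : A = B := by
  classical
  by_contra hne
  refine false_of_small S.proper S.cover S.minimal (ι := Bool) (fun i => if i then A else B)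
    (fun i => by cases i <;> simp [hA, hB]) ?_ {Subgroup.centralizer ({z} : Set G)}
    (fun C hC => by rw [Finset.mem_singleton.mp hC]; exact S.centralizer_ne_top hz)
    (fun i g hg => ⟨_, Finset.mem_singleton_self _, ?_⟩) (by simp)
  · intro i j h; cases i <;> cases j <;> simp_all
  · cases i
    · exact S.member_le_centralizer hab hB hzB hzp hg
    · exact S.member_le_centralizer hab hA hzA hzp hg

/-- An abelian Sylow subgroup which is cyclic or not elementary lies in a member. -/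
theorem exists_member_ge {P : Sylow p G} (hab : IsMulCommutative ↥(P : Subgroup G))
    (hP : IsCyclic ↥(P : Subgroup G) ∨ ¬ Cfsg.IsElementaryAbelian p (P : Subgroup G)) :
    ∃ A ∈ S.𝓐, (P : Subgroup G) ≤ A := by
  rcases hP with hc | hne
  · obtain ⟨g, hg⟩ := hc.exists_zpow_surjective
    obtain ⟨A, hA, hgA⟩ := S.cover g
    refine ⟨A, hA, fun x hx => ?_⟩
    obtain ⟨k, hk⟩ := hg ⟨x, hx⟩
    have : (g : G) ^ k = x := congrArg Subtype.val hk
    exact this ▸ zpow_mem hgA k
  have hppow : ∀ x ∈ (P : Subgroup G), ∃ k : ℕ, x ^ p ^ k = 1 := fun x hx => by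
    obtain ⟨k, hk⟩ := P.2 ⟨x, hx⟩
    exact ⟨k, congrArg Subtype.val hk⟩
  have hcomm : ∀ a ∈ (P : Subgroup G), ∀ b ∈ (P : Subgroup G), a * b = b * a := fun a ha b hb =>
    abelian_sylow_le hab P a ha b hb
  obtain ⟨x, hxP, hxp⟩ : ∃ x ∈ (P : Subgroup G), x ^ p ≠ 1 := by
    by_contra h
    push Not at h
    exact hne ⟨hab, h⟩
  obtain ⟨A, hA, hxA⟩ := S.cover x
  refine ⟨A, hA, fun w hw => ?_⟩
  have hord : ∀ y ∈ (P : Subgroup G), y ^ p = 1 → y ∈ A := by
    intro y hy hyp
    obtain ⟨B, hB, hxyB⟩ := S.cover (x * y)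
    have h1 : (x * y) ^ p = x ^ p := by rw [(show Commute x y from hcomm x hxP y hy).mul_pow, hyp, mul_one]
    have hBA : B = A := S.member_unique hab hB hA hxp (hppow _ (pow_mem hxP p))
      (h1 ▸ pow_mem hxyB p) (pow_mem hxA p)
    rw [hBA] at hxyB
    simpa using mul_mem (inv_mem hxA) hxyB
  rcases eq_or_ne w 1 with rfl | hw1
  · exact one_mem A
  obtain ⟨B, hB, hwB⟩ := S.cover w
  obtain ⟨k, hk⟩ := hppow w hw
  obtain ⟨j, hj0, hj⟩ : ∃ j, w ^ p ^ j ≠ 1 ∧ w ^ p ^ (j + 1) = 1 := by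
    induction k with
    | zero => exact absurd (by simpa using hk) hw1
    | succ k ih =>
      by_cases h : w ^ p ^ k = 1
      · exact ih h
      · exact ⟨k, h, hk⟩
  have hv : (w ^ p ^ j) ^ p = 1 := by rw [← pow_mul, ← pow_succ]; exact hj
  have := S.member_unique hab hB hA hj0 (hppow _ (pow_mem hw _)) (pow_mem hwB _) (hord _ (pow_mem hw _) hv)
  exact this ▸ hwB

/-- Every member containing an abelian Sylow subgroup is its centralizer. -/
theorem member_eq_centralizer {P : Sylow p G} (hab : IsMulCommutative ↥(P : Subgroup G))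
    (hP1 : (P : Subgroup G) ≠ ⊥) {A : Subgroup G} (hA : A ∈ S.𝓐) (hPA : (P : Subgroup G) ≤ A) :
    Subgroup.centralizer ((P : Subgroup G) : Set G) = A := by
  refine le_antisymm ?_ ?_
  · intro c hc
    obtain ⟨z, hzP, hz1⟩ := (P : Subgroup G).bot_or_exists_ne_one.resolve_left hP1
    have hzk : ∃ k : ℕ, z ^ p ^ k = 1 := by
      obtain ⟨k, hk⟩ := P.2 ⟨z, hzP⟩
      exact ⟨k, congrArg Subtype.val hk⟩
    have hcz : Commute c z := (Subgroup.mem_centralizer_iff.mp hc z hzP).symm
    -- split c into its p-part and p'-part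
    obtain ⟨N, hN⟩ : ∃ N, orderOf c = N := ⟨_, rfl⟩
    have hN0 : N ≠ 0 := hN ▸ (orderOf_pos c).ne'
    set a := p ^ N.factorization p with ha
    set b := N / a with hb
    have hab' : a * b = N := Nat.ordProj_mul_ordCompl_eq_self N p
    have hcop : Nat.Coprime a b := Nat.Coprime.pow_left _ (Nat.coprime_ordCompl (Fact.out : p.Prime) hN0)
    have hu : c ^ b ∈ A := by
      have hup : (c ^ b) ^ a = 1 := by rw [← pow_mul, mul_comm, hab', ← hN, pow_orderOf_eq_one]
      apply hPA
      -- P ⟨c^b⟩ is a p-group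
      have hpg : IsPGroup p ↥((P : Subgroup G) ⊔ Subgroup.zpowers (c ^ b)) := by
        refine IsPGroup.to_sup_of_normal_left' P.2 ?_ ?_
        · obtain ⟨j, -, hj⟩ := (Nat.dvd_prime_pow (Fact.out : p.Prime)).mp (orderOf_dvd_of_pow_eq_one hup)
          exact IsPGroup.of_card ((Nat.card_zpowers _).trans hj)
        · rw [Subgroup.zpowers_le]
          exact Subgroup.centralizer_le_normalizer _ (pow_mem hc b)
      rw [← P.3 hpg le_sup_left]
      exact Subgroup.mem_sup_right (Subgroup.mem_zpowers _)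
    have hv : c ^ a ∈ A := by
      have hvb : (c ^ a) ^ b = 1 := by rw [← pow_mul, hab', ← hN, pow_orderOf_eq_one]
      obtain ⟨B, hB, hvzB⟩ := S.cover (c ^ a * z)
      obtain ⟨k, hk⟩ := hzk
      have hcm : Commute (c ^ a) z := hcz.pow_left a
      have hcop2 : Nat.Coprime (p ^ k) b := Nat.Coprime.pow_left _ (Nat.coprime_ordCompl (Fact.out : p.Prime) hN0)
      have hzB : z ∈ B := by
        have h1 : (c ^ a * z) ^ b = z ^ b := by rw [hcm.mul_pow, hvb, one_mul]
        obtain ⟨m, hm⟩ : ∃ m : ℕ, (z ^ b) ^ m = z :=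
          exists_pow_eq_self_of_coprime (Nat.Coprime.coprime_dvd_right (orderOf_dvd_of_pow_eq_one hk) hcop2.symm)
        exact hm ▸ pow_mem (h1 ▸ pow_mem hvzB b) m
      have := S.member_unique hab hB hA hz1 ⟨k, hk⟩ hzB (hPA hzP)
      rw [this] at hvzB
      simpa using mul_mem hvzB (inv_mem (hPA hzP))
    obtain ⟨x, y, hxy⟩ : ∃ x y : ℤ, (a : ℤ) * x + (b : ℤ) * y = 1 := ⟨_, _, by
      have := Nat.gcd_eq_gcd_ab a b
      rw [hcop.gcd_eq_one] at this
      exact_mod_cast this.symm⟩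
    have hc' : c = (c ^ a) ^ x * (c ^ b) ^ y := by
      rw [← zpow_natCast c a, ← zpow_natCast c b, ← zpow_mul, ← zpow_mul, ← zpow_add, hxy, zpow_one]
    rw [hc']
    exact mul_mem (zpow_mem hv x) (zpow_mem hu y)
  · intro a ha
    refine Subgroup.mem_centralizer_iff.mpr fun x hx => ?_
    obtain ⟨k, hk⟩ := P.2 ⟨x, hx⟩
    exact (Subgroup.mem_centralizer_singleton_iff.mp
      (S.member_le_centralizer hab hA (hPA hx) ⟨k, congrArg Subtype.val hk⟩ ha)).symm

/-- The structure around an abelian Sylow subgroup that is cyclic or not elementary. -/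
theorem main {P : Sylow p G} (hab : IsMulCommutative ↥(P : Subgroup G))
    (hP : IsCyclic ↥(P : Subgroup G) ∨ ¬ Cfsg.IsElementaryAbelian p (P : Subgroup G))
    (hnn : ¬ (P : Subgroup G).Normal) :
    Subgroup.centralizer ((P : Subgroup G) : Set G) ∈ S.𝓐 ∧
    IsCoatom (Subgroup.normalizer ((P : Subgroup G) : Set G)) ∧
    (∀ g : G, g ∉ Subgroup.normalizer ((P : Subgroup G) : Set G) →
      ¬ p ∣ Nat.card ↥(Subgroup.normalizer ((P : Subgroup G) : Set G) ⊓
        (Subgroup.normalizer ((P : Subgroup G) : Set G)).map (MulAut.conj g).toMonoidHom)) ∧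
    ∀ M : Subgroup G, IsCoatom M → Subgroup.centralizer ((P : Subgroup G) : Set G) ≤ M →
      M = Subgroup.normalizer ((P : Subgroup G) : Set G) := by
  classical
  have hP' : ∀ Q : Sylow p G, IsMulCommutative ↥(Q : Subgroup G) ∧
      (IsCyclic ↥(Q : Subgroup G) ∨ ¬ Cfsg.IsElementaryAbelian p (Q : Subgroup G)) ∧
      (Q : Subgroup G) ≠ ⊥ := by
    intro Q
    let e := P.equiv Q
    refine ⟨⟨⟨fun a b => e.symm.injective (by rw [map_mul, map_mul]; exact hab.is_comm.comm _ _)⟩⟩, ?_, ?_⟩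
    · rcases hP with hc | hne
      · exact Or.inl (e.isCyclic.mp hc)
      · refine Or.inr fun h => hne ⟨hab, fun a ha => ?_⟩
        have h1 : e ⟨a, ha⟩ ^ p = 1 := Subtype.ext (h.2 _ (e ⟨a, ha⟩).2)
        rw [← map_pow, MulEquiv.map_eq_one_iff] at h1
        exact congrArg Subtype.val h1
    · intro h
      apply hnn
      have : (P : Subgroup G) = ⊥ := Subgroup.card_eq_one.mp (by
        rw [Nat.card_congr e.toEquiv, h, Subgroup.card_bot])
      rw [this]; infer_instance
  have hmem : ∀ Q : Sylow p G, Subgroup.centralizer ((Q : Subgroup G) : Set G) ∈ S.𝓐 := by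
    intro Q
    obtain ⟨hab', hQ', hQ1⟩ := hP' Q
    obtain ⟨A, hA, hQA⟩ := S.exists_member_ge hab' hQ'
    rwa [S.member_eq_centralizer hab' hQ1 hA hQA]
  have hle : ∀ Q : Sylow p G, (Q : Subgroup G) ≤ Subgroup.centralizer ((Q : Subgroup G) : Set G) :=
    fun Q a ha => Subgroup.mem_centralizer_iff.mpr fun b hb => abelian_sylow_le hab Q b hb a ha
  have hCinj : ∀ Q R : Sylow p G, Subgroup.centralizer ((Q : Subgroup G) : Set G) =
      Subgroup.centralizer ((R : Subgroup G) : Set G) → Q = R := by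
    intro Q R h
    have hRQ : (R : Subgroup G) ≤ Subgroup.normalizer ((Q : Subgroup G) : Set G) :=
      ((hle R).trans h.ge).trans (Subgroup.centralizer_le_normalizer _)
    have := IsPGroup.to_sup_of_normal_left' Q.2 R.2 hRQ
    exact Sylow.ext ((Q.3 this le_sup_left).symm.trans (R.3 this le_sup_right))
  have hTI : ∀ Q : Sylow p G, ∀ z ∈ (P : Subgroup G), z ∈ (Q : Subgroup G) → z ≠ 1 → Q = P := by
    intro Q z hzP hzQ hz
    obtain ⟨k, hk⟩ := P.2 ⟨z, hzP⟩
    exact hCinj Q P (S.member_unique hab (hmem Q) (hmem P) hz ⟨k, congrArg Subtype.val hk⟩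
      (hle Q hzQ) (hle P hzP))
  set N := Subgroup.normalizer ((P : Subgroup G) : Set G) with hN
  have huniq : ∀ M : Subgroup G, M ≠ ⊤ → Subgroup.centralizer ((P : Subgroup G) : Set G) ≤ M → M ≤ N := by
    intro M hM hCM m hm
    by_contra hmN
    have hPm : m • P ≠ P := fun h => hmN (by rwa [Sylow.smul_eq_iff_mem_normalizer] at h)
    refine false_of_small S.proper S.cover S.minimal (ι := Bool)
      (fun i => Subgroup.centralizer ((((if i then P else m • P : Sylow p G)) : Subgroup G) : Set G))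
      (fun i => hmem _) ?_ {M} (fun C hC => by rw [Finset.mem_singleton.mp hC]; exact hM)
      (fun i g hg => ⟨M, Finset.mem_singleton_self _, ?_⟩) (by simp)
    · intro i j h
      cases i <;> cases j <;> first | rfl | exact absurd (hCinj _ _ h) (by simp [hPm, Ne.symm hPm])
    · cases i
      · have hg' : m⁻¹ * g * m ∈ Subgroup.centralizer ((P : Subgroup G) : Set G) := by
          refine Subgroup.mem_centralizer_iff.mpr fun x hx => ?_
          have hmem : m * x * m⁻¹ ∈ ((m • P : Sylow p G) : Subgroup G) := by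
            rw [Sylow.coe_subgroup_smul, Subgroup.mem_pointwise_smul_iff_inv_smul_mem]
            simp only [← map_inv, MulAut.smul_def, MulAut.conj_apply]
            rwa [show m⁻¹ * (m * x * m⁻¹) * m⁻¹⁻¹ = x by group]
          have h1 := Subgroup.mem_centralizer_iff.mp hg _ hmem
          calc x * (m⁻¹ * g * m) = m⁻¹ * ((m * x * m⁻¹) * g) * m := by group
            _ = m⁻¹ * (g * (m * x * m⁻¹)) * m := by rw [h1]
            _ = _ := by group
        have : g = m * (m⁻¹ * g * m) * m⁻¹ := by group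
        rw [this]
        exact mul_mem (mul_mem hm (hCM hg')) (inv_mem hm)
      · exact hCM hg
  have hNtop : N ≠ ⊤ := fun h => hnn (Subgroup.normalizer_eq_top_iff.mp h)
  refine ⟨hmem P, ⟨hNtop, fun M hlt => ?_⟩, ?_, fun M hM hCM => ?_⟩
  · by_contra hM
    exact hlt.not_ge (huniq M hM ((Subgroup.centralizer_le_normalizer _).trans hlt.le))
  · intro g hg hdvd
    obtain ⟨⟨z, hz⟩, hord⟩ := exists_prime_orderOf_dvd_card' p hdvd
    rw [Subgroup.orderOf_mk] at hord
    have hz1 : z ≠ 1 := fun e => by rw [e, orderOf_one] at hord; exact (Fact.out : p.Prime).ne_one hord.symm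
    have hzpg : IsPGroup p (Subgroup.zpowers z) :=
      IsPGroup.of_card (n := 1) (by rw [Nat.card_zpowers, hord, pow_one])
    have hinN : ∀ Q : Sylow p G, z ∈ Subgroup.normalizer ((Q : Subgroup G) : Set G) → z ∈ (Q : Subgroup G) := by
      intro Q hzQ
      have := IsPGroup.to_sup_of_normal_left' Q.2 hzpg (Subgroup.zpowers_le.mpr hzQ)
      rw [← Q.3 this le_sup_left]
      exact Subgroup.mem_sup_right (Subgroup.mem_zpowers z)
    have h2 : z ∈ ((g • P : Sylow p G) : Subgroup G) := by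
      refine hinN _ ?_
      obtain ⟨w, hw, rfl⟩ := hz.2
      have h3 : Subgroup.normalizer (((g • P : Sylow p G) : Subgroup G) : Set G) =
          N.map (MulAut.conj g).toMonoidHom := by
        rw [hN, Subgroup.map_equiv_normalizer_eq]
        rfl
      rw [h3]
      exact ⟨w, hw, rfl⟩
    have := hTI _ z (hinN P hz.1) h2 hz1
    exact hg (Sylow.smul_eq_iff_mem_normalizer.mp this)
  · have h := huniq M hM.1 hCM
    exact ((hM.le_iff.mp h).resolve_left hNtop).symm

end NilCover

end Cfsg.Agent.Lib.LinCover
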