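import Mathlib
import Cfsg.Agent.Lib.LinCover.Basic

/-!
No group between `PSL` and `PGL` has a nilpotent cover of minimal size.
-/

set_option autoImplicit false

open Matrix

namespace Cfsg.Agent.Lib.LinCover

variable {F : Type*} [Field F] {n : ℕ}

/-! ### Shift unipotents -/

/-- The shift matrix. -/
def shiftMat (F : Type*) [Field F] (n : ℕ) : Matrix (Fin n) (Fin n) F :=
  Matrix.of fun i j => if (j : ℕ) = i + 1 then 1 else 0

theorem det_one_add_shift : (1 + shiftMat F n).det = 1 := by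
  rw [Matrix.det_of_upperTriangular]
  · refine Finset.prod_eq_one fun i _ => ?_
    simp [shiftMat]
  · intro i j hij
    have h1 : (j : ℕ) < i := hij
    have h2 : i ≠ j := fun e => by subst e; exact lt_irrefl _ h1
    have h3 : (j : ℕ) ≠ i + 1 := by omega
    simp [shiftMat, h2, h3]

theorem shift_pow (m : ℕ) : ∀ i j, (shiftMat F n ^ m) i j ≠ 0 → (j : ℕ) = i + m := by
  induction m with
  | zero =>
    intro i j h
    rw [pow_zero, Matrix.one_apply] at h
    split_ifs at h with he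
    · rw [he, add_zero]
    · exact absurd rfl h
  | succ m ih =>
    intro i j h
    rw [pow_succ, Matrix.mul_apply] at h
    obtain ⟨l, -, hl⟩ := Finset.exists_ne_zero_of_sum_ne_zero h
    have h1 := ih i l (left_ne_zero_of_mul hl)
    have h2 := right_ne_zero_of_mul hl
    by_cases h3 : (j : ℕ) = l + 1
    · omega
    · simp [shiftMat, h3] at h2

theorem one_add_shift_pow (p : ℕ) [Fact p.Prime] [CharP F p] [NeZero n] :
    (1 + shiftMat F n) ^ p ^ n = 1 := by
  rw [add_pow_char_pow_of_commute (p := p) (n := n) (Commute.one_left _), one_pow]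
  suffices h : shiftMat F n ^ p ^ n = 0 by rw [h, add_zero]
  ext i j
  by_contra hne
  have := shift_pow _ i j hne
  have := Nat.lt_pow_self (n := n) (Fact.out : p.Prime).one_lt
  omega

theorem shift_mulVec (w : Fin n → F) (i : Fin n) :
    (shiftMat F n *ᵥ w) i = if h : (i : ℕ) + 1 < n then w ⟨i + 1, h⟩ else 0 := by
  simp only [Matrix.mulVec, dotProduct, shiftMat, Matrix.of_apply, ite_mul, one_mul, zero_mul]
  split_ifs with h
  · rw [Finset.sum_eq_single (⟨i + 1, h⟩ : Fin n) (fun j _ hj => if_neg fun e => hj (Fin.ext e))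
      (fun h' => absurd (Finset.mem_univ _) h')]
    simp
  · exact Finset.sum_eq_zero fun j _ => if_neg fun (e : (j : ℕ) = i + 1) => h (e ▸ j.2)

theorem mem_span_single [NeZero n] {w : Fin n → F} (h : ∀ j, j ≠ 0 → w j = 0) :
    w ∈ F ∙ (Pi.single 0 1 : Fin n → F) := by
  refine Submodule.mem_span_singleton.mpr ⟨w 0, funext fun j => ?_⟩
  by_cases hj : j = 0
  · subst hj; simp
  · simp [h j hj, hj]

theorem zero_of_mem_span_single [NeZero n] {w : Fin n → F}
    (hw : w ∈ F ∙ (Pi.single 0 1 : Fin n → F)) {j : Fin n} (hj : j ≠ 0) : w j = 0 := by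
  obtain ⟨a, rfl⟩ := Submodule.mem_span_singleton.mp hw
  simp [hj]

theorem fix_one_add_shift [NeZero n] {w : Fin n → F} (hw : (1 + shiftMat F n) *ᵥ w = w) :
    w ∈ F ∙ (Pi.single 0 1 : Fin n → F) := by
  rw [add_mulVec, one_mulVec, add_eq_left] at hw
  refine mem_span_single fun j hj => ?_
  have hj0 : (j : ℕ) ≠ 0 := fun e => hj (Fin.ext e)
  have := congrFun hw ⟨j - 1, by omega⟩
  rw [shift_mulVec, dif_pos (show (j : ℕ) - 1 + 1 < n by omega)] at this
  simpa [Nat.sub_add_cancel (Nat.one_le_iff_ne_zero.mpr hj0)] using this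

theorem plane_one_add_shift [NeZero n] {w : Fin n → F}
    (hw : (1 + shiftMat F n) *ᵥ w - w ∈ F ∙ (Pi.single 0 1 : Fin n → F)) {j : Fin n}
    (hj : 2 ≤ (j : ℕ)) : w j = 0 := by
  rw [add_mulVec, one_mulVec, add_sub_cancel_left] at hw
  have h := zero_of_mem_span_single hw (j := ⟨(j : ℕ) - 1, by omega⟩) (fun e => by
    have := congrArg Fin.val e
    simp at this
    omega)
  rw [shift_mulVec, dif_pos (show (j : ℕ) - 1 + 1 < n by omega)] at h
  simpa [Nat.sub_add_cancel (show 1 ≤ (j : ℕ) by omega)] using h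

/-! ### Elements of GL -/

variable [Finite F]

theorem exists_GL_col [NeZero n] {v : Fin n → F} (hv : v ≠ 0) :
    ∃ g : GL (Fin n) F, (g : Matrix (Fin n) (Fin n) F) *ᵥ Pi.single 0 1 = v := by
  obtain ⟨i, hi⟩ := Function.ne_iff.mp hv
  let M : Matrix (Fin n) (Fin n) F := (1 : Matrix (Fin n) (Fin n) F).updateCol i v
  have hdet : M.det ≠ 0 := by
    show ((1 : Matrix (Fin n) (Fin n) F).updateCol i v).det ≠ 0
    rw [← Matrix.cramer_apply, Matrix.cramer_one]
    exact hi
  let s : Matrix (Fin n) (Fin n) F := (Equiv.swap 0 i).toPEquiv.toMatrix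
  have hs : s.det ≠ 0 := by
    intro h
    have h1 : s * s = 1 := by
      rw [← PEquiv.toMatrix_trans, ← Equiv.toPEquiv_trans]
      simp [Equiv.toPEquiv_refl, PEquiv.toMatrix_refl]
    have := congrArg Matrix.det h1
    rw [Matrix.det_mul, h, zero_mul, Matrix.det_one] at this
    exact zero_ne_one this
  refine ⟨Matrix.GeneralLinearGroup.mkOfDetNeZero (M * s) (by
    rw [Matrix.det_mul]; exact mul_ne_zero hdet hs), ?_⟩
  show (M * s) *ᵥ Pi.single 0 1 = v
  funext j
  rw [Matrix.mulVec_single_one]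
  show (M * s) j 0 = v j
  rw [PEquiv.mul_toMatrix_toPEquiv]
  simp [M, Matrix.updateCol_self]

/-- A regular unipotent attached to a line. -/
structure Uni (F : Type*) [Field F] (n p : ℕ) (v : Fin n → F) (u : GL (Fin n) F) : Prop where
  det : (u : Matrix (Fin n) (Fin n) F).det = 1
  pow : ∃ k : ℕ, u ^ p ^ k = 1
  fix : ∀ w, (u : Matrix (Fin n) (Fin n) F) *ᵥ w = w → w ∈ F ∙ v

theorem eq_one_of_pow_char {p : ℕ} [Fact p.Prime] [CharP F p] {c : F} {k : ℕ} (h : c ^ p ^ k = 1) :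
    c = 1 := by
  have := sub_pow_char_pow (p := p) (n := k) c 1
  rw [h, one_pow, sub_self] at this
  exact sub_eq_zero.mp (pow_eq_zero_iff (pow_ne_zero k (Fact.out : p.Prime).ne_zero) |>.mp this)

omit [Finite F] in
theorem pow_mulVec {g : GL (Fin n) F} {w : Fin n → F} {c : F}
    (h : (g : Matrix (Fin n) (Fin n) F) *ᵥ w = c • w) (i : ℕ) :
    ((g ^ i : GL (Fin n) F) : Matrix (Fin n) (Fin n) F) *ᵥ w = c ^ i • w := by
  induction i with
  | zero => simp
  | succ i ih => rw [pow_succ, Units.val_mul, ← mulVec_mulVec, h, mulVec_smul, ih, smul_smul, pow_succ']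

omit [Finite F] in
theorem eq_one_of_smul_eq {c : F} {w : Fin n → F} (hw : w ≠ 0) (h : w = c • w) : c = 1 := by
  by_contra hc
  have : (c - 1) • w = 0 := by rw [sub_smul, one_smul, ← h, sub_self]
  exact hw ((smul_eq_zero.mp this).resolve_left (sub_ne_zero.mpr hc))

theorem Uni.eigen {p : ℕ} [Fact p.Prime] [CharP F p] {v : Fin n → F} {u : GL (Fin n) F}
    (h : Uni F n p v u) {w : Fin n → F} (hw : w ≠ 0) (hu : u ∈ lineStab w) : w ∈ F ∙ v := by
  obtain ⟨c, -, hc⟩ := hu
  obtain ⟨k, hk⟩ := h.pow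
  have h1 := pow_mulVec hc (p ^ k)
  rw [hk, Units.val_one, one_mulVec] at h1
  rw [eq_one_of_pow_char (eq_one_of_smul_eq hw h1), one_smul] at hc
  exact h.fix w hc

omit [Finite F] in
theorem det_conj (g u : GL (Fin n) F) :
    ((g * u * g⁻¹ : GL (Fin n) F) : Matrix (Fin n) (Fin n) F).det =
      (u : Matrix (Fin n) (Fin n) F).det := by
  rw [Units.val_mul, Units.val_mul, Matrix.det_units_conj]

omit [Finite F] in
theorem mem_span_conj (g : GL (Fin n) F) {e w : Fin n → F}
    (h : ((g⁻¹ : GL (Fin n) F) : Matrix (Fin n) (Fin n) F) *ᵥ w ∈ F ∙ e) :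
    w ∈ F ∙ ((g : Matrix (Fin n) (Fin n) F) *ᵥ e) := by
  obtain ⟨a, ha⟩ := Submodule.mem_span_singleton.mp h
  refine Submodule.mem_span_singleton.mpr ⟨a, ?_⟩
  rw [← mulVec_smul, ha, mulVec_mulVec, ← Units.val_mul, mul_inv_cancel, Units.val_one, one_mulVec]

omit [Finite F] in
theorem conj_mulVec (g u : GL (Fin n) F) (w : Fin n → F) :
    ((g⁻¹ : GL (Fin n) F) : Matrix (Fin n) (Fin n) F) *ᵥ
      (((g * u * g⁻¹ : GL (Fin n) F) : Matrix (Fin n) (Fin n) F) *ᵥ w) =
    (u : Matrix (Fin n) (Fin n) F) *ᵥ (((g⁻¹ : GL (Fin n) F) : Matrix (Fin n) (Fin n) F) *ᵥ w) := by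
  rw [mulVec_mulVec, mulVec_mulVec, ← Units.val_mul, ← Units.val_mul]
  congr 2
  group

theorem exists_uni_pair [NeZero n] (p : ℕ) [Fact p.Prime] [CharP F p] {v : Fin n → F} (hv : v ≠ 0) :
    ∃ u u' : GL (Fin n) F, Uni F n p v u ∧ Uni F n p v u' ∧ (2 < n → ∀ w,
      (u : Matrix (Fin n) (Fin n) F) *ᵥ w - w ∈ F ∙ v →
      (u' : Matrix (Fin n) (Fin n) F) *ᵥ w - w ∈ F ∙ v → w ∈ F ∙ v) := by
  obtain ⟨g, hg⟩ := exists_GL_col hv
  let u₀ : GL (Fin n) F := Matrix.GeneralLinearGroup.mkOfDetNeZero (1 + shiftMat F n)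
    (by rw [det_one_add_shift]; exact one_ne_zero)
  let σ : Equiv.Perm (Fin n) := if h : 2 < n then Equiv.swap ⟨1, by omega⟩ ⟨2, h⟩ else 1
  have hσ0 : σ 0 = 0 := by
    simp only [σ]
    split_ifs with h
    · exact Equiv.swap_apply_of_ne_of_ne (fun e => by simpa using congrArg Fin.val e)
        (fun e => by simpa using congrArg Fin.val e)
    · rfl
  let M₁ : Matrix (Fin n) (Fin n) F := (1 + shiftMat F n).submatrix σ σ
  have hM₁ : M₁.det = 1 := by rw [Matrix.det_submatrix_equiv_self, det_one_add_shift]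
  let u₁ : GL (Fin n) F := Matrix.GeneralLinearGroup.mkOfDetNeZero M₁
    (by rw [hM₁]; exact one_ne_zero)
  have hM₁v : ∀ w, M₁ *ᵥ w = ((1 + shiftMat F n) *ᵥ (w ∘ σ.symm)) ∘ σ := fun w =>
    Matrix.submatrix_mulVec_equiv _ w σ σ
  have hspan : ∀ w : Fin n → F, w ∘ σ ∈ F ∙ (Pi.single 0 1 : Fin n → F) →
      w ∈ F ∙ (Pi.single 0 1 : Fin n → F) := fun w hw => mem_span_single fun j hj => by
    have := zero_of_mem_span_single hw (j := σ.symm j) (fun e => hj (by
      rw [← Equiv.apply_symm_apply σ j, e, hσ0]))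
    simpa using this
  have hspan' : ∀ w : Fin n → F, w ∈ F ∙ (Pi.single 0 1 : Fin n → F) →
      w ∘ σ.symm ∈ F ∙ (Pi.single 0 1 : Fin n → F) := fun w hw => hspan _ (by
    simpa [Function.comp_assoc] using hw)
  have hpow₀ : (1 + shiftMat F n) ^ p ^ n = 1 := one_add_shift_pow p
  have hpow₁ : M₁ ^ p ^ n = 1 := by
    have h : ∀ i : ℕ, M₁ ^ i = ((1 + shiftMat F n) ^ i).submatrix σ σ := by
      intro i
      induction i with
      | zero => simp [Matrix.submatrix_one_equiv]
      | succ i ih => rw [pow_succ, pow_succ, ih, Matrix.submatrix_mul_equiv]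
    rw [h, hpow₀, Matrix.submatrix_one_equiv]
  have mk : ∀ u : GL (Fin n) F, (u : Matrix (Fin n) (Fin n) F).det = 1 →
      (u : Matrix (Fin n) (Fin n) F) ^ p ^ n = 1 →
      (∀ w, (u : Matrix (Fin n) (Fin n) F) *ᵥ w = w → w ∈ F ∙ (Pi.single 0 1 : Fin n → F)) →
      Uni F n p v (g * u * g⁻¹) := by
    intro u hd hp hf
    refine ⟨by rw [det_conj, hd], ⟨n, ?_⟩, fun w hw => ?_⟩
    · rw [conj_pow, show u ^ p ^ n = 1 from Units.ext (by rw [Units.val_pow_eq_pow_val, hp, Units.val_one]),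
        mul_one, mul_inv_cancel]
    · rw [← hg]
      refine mem_span_conj g (hf _ ?_)
      rw [← conj_mulVec, hw]
  refine ⟨g * u₀ * g⁻¹, g * u₁ * g⁻¹, mk u₀ det_one_add_shift hpow₀ fun w hw => fix_one_add_shift hw,
    mk u₁ hM₁ hpow₁ fun w hw => ?_, fun h2 w h h' => ?_⟩
  · change M₁ *ᵥ w = w at hw
    rw [hM₁v] at hw
    have h1 : (1 + shiftMat F n) *ᵥ (w ∘ σ.symm) = w ∘ σ.symm := by
      funext i
      have := congrFun hw (σ.symm i)
      simpa using this
    refine hspan _ (mem_span_single fun j hj => ?_)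
    have := zero_of_mem_span_single (fix_one_add_shift h1) (j := σ (σ j)) ?_
    · simpa using this
    · intro e
      exact hj (σ.injective (σ.injective (by rw [e, hσ0, hσ0])))
  · rw [← hg] at h h' ⊢
    refine mem_span_conj g ?_
    set w' := ((g⁻¹ : GL (Fin n) F) : Matrix (Fin n) (Fin n) F) *ᵥ w with hw'
    have down : ∀ u : GL (Fin n) F,
        ((g * u * g⁻¹ : GL (Fin n) F) : Matrix (Fin n) (Fin n) F) *ᵥ w - w ∈
          F ∙ ((g : Matrix (Fin n) (Fin n) F) *ᵥ Pi.single 0 1) →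
        (u : Matrix (Fin n) (Fin n) F) *ᵥ w' - w' ∈ F ∙ (Pi.single 0 1 : Fin n → F) := by
      intro u hu
      obtain ⟨a, ha⟩ := Submodule.mem_span_singleton.mp hu
      refine Submodule.mem_span_singleton.mpr ⟨a, ?_⟩
      rw [hw', ← conj_mulVec, ← mulVec_sub, ← ha, mulVec_smul, mulVec_mulVec, ← Units.val_mul,
        inv_mul_cancel, Units.val_one, one_mulVec]
    have h0 := down u₀ h
    have h1 := down u₁ h'
    change M₁ *ᵥ w' - w' ∈ _ at h1
    rw [hM₁v] at h1
    have h2' := hspan' _ h1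
    have h3 : ((1 + shiftMat F n) *ᵥ (w' ∘ σ.symm)) - w' ∘ σ.symm ∈
        F ∙ (Pi.single 0 1 : Fin n → F) := by
      convert h2' using 1
      funext i
      simp
    refine mem_span_single fun j hj => ?_
    by_cases hj2 : 2 ≤ (j : ℕ)
    · exact plane_one_add_shift h0 hj2
    · have hj1 : (j : ℕ) = 1 := by
        have : (j : ℕ) ≠ 0 := fun e => hj (Fin.ext e)
        omega
      have h4 := plane_one_add_shift h3 (j := ⟨2, h2⟩) le_rfl
      simp only [σ, dif_pos h2, Function.comp_apply, Equiv.symm_swap, Equiv.swap_apply_right] at h4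
      rw [← h4]
      congr 1
      exact Fin.ext hj1

end Cfsg.Agent.Lib.LinCover
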