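import Mathlib
import Cfsg.Agent.Lib.LinCover.Main

/-!
Covers of groups between `PSL` and `PGL` by nilpotent subgroups.
-/

set_option autoImplicit false

open Matrix
open scoped LinearAlgebra.Projectivization

namespace Cfsg.Agent.Lib.LinCover

/-- A group between `PSL` and `PGL` together with a nilpotent cover of minimal size. -/
structure Setup (F : Type*) [Field F] (n : ℕ) where
  G : Subgroup (GL (Fin n) F ⧸ Subgroup.center (GL (Fin n) F))
  hG : ((Matrix.SpecialLinearGroup.toGL : Matrix.SpecialLinearGroup (Fin n) F →* GL (Fin n) F).range).map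
    (QuotientGroup.mk' (Subgroup.center (GL (Fin n) F))) ≤ G
  𝓐 : Finset (Subgroup G)
  proper : ∀ A ∈ 𝓐, A ≠ ⊤
  cover : ∀ g : G, ∃ A ∈ 𝓐, g ∈ A
  minimal : ∀ 𝓑 : Finset (Subgroup G), (∀ A ∈ 𝓑, A ≠ ⊤) ∧ (∀ g : G, ∃ A ∈ 𝓑, g ∈ A) →
    𝓐.card ≤ 𝓑.card
  nilpotent : ∀ A ∈ 𝓐, Group.IsNilpotent A

variable {F : Type*} [Field F] {n : ℕ}

namespace Setup

variable (S : Setup F n)

/-- The projection to `PGL`. -/
abbrev π : GL (Fin n) F →* GL (Fin n) F ⧸ Subgroup.center (GL (Fin n) F) :=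
  QuotientGroup.mk' (Subgroup.center (GL (Fin n) F))

/-- The preimage in `GL` of a subgroup of `G`. -/
def pre (A : Subgroup S.G) : Subgroup (GL (Fin n) F) := (A.map S.G.subtype).comap π

theorem mem_G {x : GL (Fin n) F} (hx : (x : Matrix (Fin n) (Fin n) F).det = 1) : π x ∈ S.G :=
  S.hG ⟨x, ⟨⟨(x : Matrix (Fin n) (Fin n) F), hx⟩, Units.ext rfl⟩, rfl⟩

/-- An element of determinant one as an element of `G`. -/
def el (x : GL (Fin n) F) (hx : (x : Matrix (Fin n) (Fin n) F).det = 1) : S.G := ⟨π x, S.mem_G hx⟩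

theorem exists_member {x : GL (Fin n) F} (hx : (x : Matrix (Fin n) (Fin n) F).det = 1) :
    ∃ A ∈ S.𝓐, x ∈ S.pre A := by
  obtain ⟨A, hA, hg⟩ := S.cover (S.el x hx)
  exact ⟨A, hA, _, hg, rfl⟩

theorem pre_isNilpotent {A : Subgroup S.G} (hA : A ∈ S.𝓐) : Group.IsNilpotent (S.pre A) := by
  haveI := S.nilpotent A hA
  haveI : Group.IsNilpotent (A.map S.G.subtype) :=
    Cores.isNilpotent_map S.G.subtype A
  refine Subgroup.isNilpotent_of_ker_le_center ((π : GL (Fin n) F →* _).subgroupComap (A.map S.G.subtype)) ?_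
  intro c hc
  have hcz : (c : GL (Fin n) F) ∈ Subgroup.center (GL (Fin n) F) :=
    (QuotientGroup.eq_one_iff _).mp (congrArg Subtype.val hc)
  exact Subgroup.mem_center_iff.mpr fun d => Subtype.ext (Subgroup.mem_center_iff.mp hcz d)

/-- The image in `G` of a subgroup of `GL`. -/
def down (H : Subgroup (GL (Fin n) F)) : Subgroup S.G := (H.map π).comap S.G.subtype

theorem le_down {A : Subgroup S.G} {H : Subgroup (GL (Fin n) F)} (h : S.pre A ≤ H) : A ≤ S.down H := by
  intro g hg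
  obtain ⟨x, hx⟩ := QuotientGroup.mk'_surjective _ g.val
  exact ⟨x, h ⟨g, hg, hx.symm⟩, hx⟩

theorem down_ne_top {H : Subgroup (GL (Fin n) F)} (hH : Subgroup.center (GL (Fin n) F) ≤ H)
    {s : GL (Fin n) F} (hs : (s : Matrix (Fin n) (Fin n) F).det = 1) (hsH : s ∉ H) :
    S.down H ≠ ⊤ := by
  intro h
  obtain ⟨y, hy, hys⟩ := (h ▸ Subgroup.mem_top (S.el s hs) : S.el s hs ∈ S.down H)
  refine hsH ?_
  have : y⁻¹ * s ∈ H := hH (QuotientGroup.eq.mp hys)
  simpa using mul_mem hy this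

theorem mem_down {H : Subgroup (GL (Fin n) F)} (g : S.G) {x : GL (Fin n) F}
    (hx : π x = (g : GL (Fin n) F ⧸ _)) (hxH : x ∈ H) : g ∈ S.down H := ⟨x, hxH, hx⟩

variable [Finite F]

/-- Point stabilisers in `G`. -/
noncomputable def pointStab (P : ℙ F (Fin n → F)) : Subgroup S.G := S.down (lineStab P.rep)

theorem exists_move [NeZero n] (hn : 2 ≤ n) {v : Fin n → F} (hv : v ≠ 0) :
    ∃ s : GL (Fin n) F, (s : Matrix (Fin n) (Fin n) F).det = 1 ∧ s ∉ lineStab v := by
  obtain ⟨g, hg⟩ := exists_GL_col hv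
  let j : Fin n := ⟨1, by omega⟩
  have hj : j ≠ 0 := fun e => by simpa [j] using congrArg Fin.val e
  let T : GL (Fin n) F := Matrix.GeneralLinearGroup.mkOfDetNeZero (Matrix.transvection j 0 (1 : F))
    (by rw [Matrix.det_transvection_of_ne _ _ hj]; exact one_ne_zero)
  refine ⟨g * T * g⁻¹, by rw [det_conj]; exact Matrix.det_transvection_of_ne _ _ hj _, ?_⟩
  rintro ⟨c, -, hc⟩
  have h1 : (T : Matrix (Fin n) (Fin n) F) *ᵥ Pi.single 0 1 = c • Pi.single 0 1 := by
    have h2 := conj_mulVec g T v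
    rw [hc, ← hg, mulVec_smul, mulVec_mulVec, ← Units.val_mul, inv_mul_cancel, Units.val_one,
      one_mulVec] at h2
    exact h2.symm
  have h3 := congrFun h1 j
  rw [show (T : Matrix (Fin n) (Fin n) F) = Matrix.transvection j 0 (1 : F) from rfl,
    Matrix.mulVec_single_one] at h3
  simp [Matrix.transvection, hj] at h3

theorem pointStab_ne_top [NeZero n] (hn : 2 ≤ n) (P : ℙ F (Fin n → F)) : S.pointStab P ≠ ⊤ := by
  obtain ⟨s, hs, hs'⟩ := exists_move hn P.rep_nonzero
  exact S.down_ne_top (center_le_lineStab _) hs hs'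

omit [Finite F] in
theorem eq_of_mem_span {P Q : ℙ F (Fin n → F)} (h : Q.rep ∈ F ∙ P.rep) : Q = P := by
  obtain ⟨a, ha⟩ := Submodule.mem_span_singleton.mp h
  have := (Projectivization.mk_eq_mk_iff' F _ _ Q.rep_nonzero P.rep_nonzero).mpr ⟨a, ha⟩
  rwa [Projectivization.mk_rep, Projectivization.mk_rep] at this

theorem mem_lineStab_smul {v : Fin n → F} {g : GL (Fin n) F} {a : F}
    (h : g ∈ lineStab v) : g ∈ lineStab (a • v) := by
  obtain ⟨c, hc, hcv⟩ := h
  exact ⟨c, hc, by rw [mulVec_smul, hcv, smul_comm]⟩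

theorem mem_lineStab_mk {v : Fin n → F} (hv : v ≠ 0) {g : GL (Fin n) F} (h : g ∈ lineStab v) :
    g ∈ lineStab (Projectivization.mk F v hv).rep := by
  obtain ⟨a, ha⟩ := Projectivization.exists_smul_eq_mk_rep F v hv
  rw [← ha]
  exact mem_lineStab_smul h

/-- The choice of members for unipotent elements. -/
theorem exists_uni_members [NeZero n] (p : ℕ) [Fact p.Prime] [CharP F p] :
    ∃ (A A' : ℙ F (Fin n → F) → Subgroup S.G) (u : ℙ F (Fin n → F) → GL (Fin n) F),
      (∀ P, A P ∈ S.𝓐) ∧ (∀ P, A' P ∈ S.𝓐) ∧ (∀ P, u P ∈ S.pre (A P)) ∧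
      (∀ P, Uni F n p P.rep (u P)) ∧ (∀ P, S.pre (A P) ≤ lineStab P.rep) ∧
      (∀ P, S.pre (A' P) ≤ lineStab P.rep) ∧ Function.Injective A ∧
      (2 < n → ∀ P Q, A P ≠ A' Q) := by
  choose u u' hu hu' hplane using fun P : ℙ F (Fin n → F) => exists_uni_pair p P.rep_nonzero
  choose A hA hmem using fun P => S.exists_member (hu P).det
  choose A' hA' hmem' using fun P => S.exists_member (hu' P).det
  have hle : ∀ P, S.pre (A P) ≤ lineStab P.rep := fun P => by
    haveI := S.pre_isNilpotent (hA P)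
    exact le_lineStab_of_unipotent _ (hmem P) (hu P).pow P.rep_nonzero (hu P).fix
  have hle' : ∀ P, S.pre (A' P) ≤ lineStab P.rep := fun P => by
    haveI := S.pre_isNilpotent (hA' P)
    exact le_lineStab_of_unipotent _ (hmem' P) (hu' P).pow P.rep_nonzero (hu' P).fix
  refine ⟨A, A', u, hA, hA', hmem, hu, hle, hle', fun P Q h => ?_, fun h2 P Q h => ?_⟩
  · exact eq_of_mem_span ((hu Q).eigen P.rep_nonzero (hle P (h ▸ hmem Q)))
  · have hPQ : P = Q := eq_of_mem_span ((hu' Q).eigen P.rep_nonzero (hle P (h ▸ hmem' Q)))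
    subst hPQ
    haveI := S.pre_isNilpotent (hA P)
    have hL : F ∙ P.rep ≠ ⊤ := fun e => by
      have h3 := finrank_span_singleton (K := F) P.rep_nonzero
      rw [e, finrank_top, Module.finrank_fin_fun] at h3
      omega
    obtain ⟨w, hw, h3, h4⟩ := exists_common_plane _ (hmem P) (h ▸ hmem' P) (hu P).pow (hu' P).pow
      hL (hle P)
    exact hw (hplane P h2 w h3 h4)

theorem mem_down_of_mem_pre {A : Subgroup S.G} {H : Subgroup (GL (Fin n) F)} (h : S.pre A ≤ H)
    {g : S.G} (hg : g ∈ A) : g ∈ S.down H := S.le_down h hg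

/-- Replacement by point stabilisers. -/
theorem false_of_points [NeZero n] (hn : 2 ≤ n) {ι : Type*} [Fintype ι] (f : ι → Subgroup S.G)
    (hf : ∀ i, f i ∈ S.𝓐) (hinj : Function.Injective f)
    (hfix : ∀ i, ∃ P : ℙ F (Fin n → F), S.pre (f i) ≤ lineStab P.rep)
    (hlt : Nat.card (ℙ F (Fin n → F)) < Fintype.card ι) : False := by
  classical
  letI : Fintype (ℙ F (Fin n → F)) := Fintype.ofFinite _
  refine false_of_small S.proper S.cover S.minimal f hf hinj (Finset.univ.image S.pointStab)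
    (fun C hC => ?_) (fun i g hg => ?_) (lt_of_le_of_lt Finset.card_image_le ?_)
  · obtain ⟨P, -, rfl⟩ := Finset.mem_image.mp hC
    exact S.pointStab_ne_top hn P
  · obtain ⟨P, hP⟩ := hfix i
    exact ⟨_, Finset.mem_image_of_mem _ (Finset.mem_univ P), S.mem_down_of_mem_pre hP hg⟩
  · rwa [Finset.card_univ, ← Nat.card_eq_fintype_card]

theorem false_of_three_le {F : Type*} [Field F] [Finite F] {n : ℕ} (S : Setup F n) [NeZero n] (hn : 3 ≤ n) : False := by
  classical
  obtain ⟨p, hp⟩ := CharP.exists F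
  haveI := Fintype.ofFinite F
  haveI : Fact p.Prime := ⟨CharP.char_is_prime F p⟩
  obtain ⟨A, A', u, hA, hA', hmem, hu, hle, hle', hinj, hne⟩ := S.exists_uni_members p
  letI : Fintype (ℙ F (Fin n → F)) := Fintype.ofFinite _
  let v₀ : Fin n → F := Pi.single 0 1
  have hv₀ : v₀ ≠ 0 := by simp [v₀]
  let P₀ := Projectivization.mk F v₀ hv₀
  refine S.false_of_points (by omega) (fun i : Option (ℙ F (Fin n → F)) => i.elim (A' P₀) A)
    (fun i => by cases i <;> simp [hA, hA']) ?_
    (fun i => by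
      cases i with
      | none => exact ⟨P₀, hle' P₀⟩
      | some P => exact ⟨P, hle P⟩)
    (by rw [Fintype.card_option, Nat.card_eq_fintype_card]; omega)
  intro i j h
  cases i with
  | none => cases j with
    | none => rfl
    | some Q => exact absurd h.symm (hne (by omega) Q P₀)
  | some P => cases j with
    | none => exact absurd h (hne (by omega) P P₀)
    | some Q => exact congrArg some (hinj h)

end Setup

end Cfsg.Agent.Lib.LinCover
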