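import Mathlib
import Cfsg.Agent.Lib.LinCover.Cover

/-!
The two-dimensional case.
-/

set_option autoImplicit false

open Matrix
open scoped LinearAlgebra.Projectivization

namespace Cfsg.Agent.Lib.LinCover

variable {F : Type*} [Field F]

/-- The matrix with columns `v` and `w`. -/
def colsMat (v w : Fin 2 → F) : Matrix (Fin 2) (Fin 2) F := !![v 0, w 0; v 1, w 1]

theorem colsMat_mulVec (v w x : Fin 2 → F) : colsMat v w *ᵥ x = x 0 • v + x 1 • w := by
  ext i
  fin_cases i <;> simp [colsMat, Matrix.mulVec, dotProduct, Fin.sum_univ_two] <;> ring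

theorem det_colsMat_ne_zero {v w : Fin 2 → F} (hv : v ≠ 0) (hw : w ∉ F ∙ v) :
    (colsMat v w).det ≠ 0 := by
  intro h
  obtain ⟨x, hx0, hx⟩ := Matrix.exists_mulVec_eq_zero_iff.mpr h
  rw [colsMat_mulVec] at hx
  by_cases h1 : x 1 = 0
  · rw [h1, zero_smul, add_zero] at hx
    have h0 : x 0 = 0 := (smul_eq_zero.mp hx).resolve_right hv
    exact hx0 (funext fun i => by fin_cases i <;> simp [h0, h1])
  · refine hw (Submodule.mem_span_singleton.mpr ⟨-(x 1)⁻¹ * x 0, ?_⟩)
    have h2 : x 0 • v = -(x 1 • w) := eq_neg_of_add_eq_zero_left hx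
    rw [neg_mul, neg_smul, ← smul_smul, h2, smul_neg, neg_neg, smul_smul, inv_mul_cancel₀ h1, one_smul]

theorem exists_decomp {v w : Fin 2 → F} (hv : v ≠ 0) (hw : w ∉ F ∙ v) (z : Fin 2 → F) :
    ∃ a b : F, z = a • v + b • w := by
  have h := (det_colsMat_ne_zero hv hw).isUnit
  refine ⟨((colsMat v w)⁻¹ *ᵥ z) 0, ((colsMat v w)⁻¹ *ᵥ z) 1, ?_⟩
  rw [← colsMat_mulVec, mulVec_mulVec, Matrix.mul_nonsing_inv _ h, one_mulVec]

theorem exists_not_mem_span (v : Fin 2 → F) : ∃ w : Fin 2 → F, w ∉ F ∙ v := by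
  by_contra h
  push Not at h
  obtain ⟨a, ha⟩ := Submodule.mem_span_singleton.mp (h (Pi.single 0 1))
  obtain ⟨b, hb⟩ := Submodule.mem_span_singleton.mp (h (Pi.single 1 1))
  have h00 := congrFun ha 0
  have h01 := congrFun ha 1
  have h11 := congrFun hb 1
  simp at h00 h01 h11
  rcases h01 with rfl | h
  · simp at h00
  · simp [h] at h11

variable [Finite F]

/-- An element without invariant lines. -/
def Elliptic (g : GL (Fin 2) F) : Prop := ∀ v : Fin 2 → F, v ≠ 0 → g ∉ lineStab v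

theorem exists_form_of_commute {g h : GL (Fin 2) F} (hg : Elliptic g) (hc : h * g = g * h) :
    ∃ a b : F, (h : Matrix (Fin 2) (Fin 2) F) = a • 1 + b • (g : Matrix (Fin 2) (Fin 2) F) := by
  have hc' : (h : Matrix (Fin 2) (Fin 2) F) * g = (g : Matrix (Fin 2) (Fin 2) F) * h := by
    rw [← Units.val_mul, hc, Units.val_mul]
  have hg10 : (g : Matrix (Fin 2) (Fin 2) F) 1 0 ≠ 0 := fun h0 =>
    hg (Pi.single 0 1) (by simp) (mem_lineStab_of_eq (by simp)
      (c := (g : Matrix (Fin 2) (Fin 2) F) 0 0) (funext fun i => by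
        rw [Matrix.mulVec_single_one]
        fin_cases i <;> simp [h0]))
  have e00 := congrFun (congrFun hc' 0) 0
  have e10 := congrFun (congrFun hc' 1) 0
  simp [Matrix.mul_apply, Fin.sum_univ_two] at e00 e10
  generalize hG : (g : Matrix (Fin 2) (Fin 2) F) = G at *
  generalize hH : (h : Matrix (Fin 2) (Fin 2) F) = H at *
  refine ⟨H 0 0 - H 1 0 / G 1 0 * G 0 0, H 1 0 / G 1 0, ?_⟩
  ext i j
  fin_cases i <;> fin_cases j <;> simp <;> field_simp
  · linear_combination e00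
  · linear_combination e10

theorem commute_of_form {g h h' : GL (Fin 2) F} {a b a' b' : F}
    (hh : (h : Matrix (Fin 2) (Fin 2) F) = a • 1 + b • (g : Matrix (Fin 2) (Fin 2) F))
    (hh' : (h' : Matrix (Fin 2) (Fin 2) F) = a' • 1 + b' • (g : Matrix (Fin 2) (Fin 2) F)) :
    h * h' = h' * h := by
  refine Units.ext ?_
  rw [Units.val_mul, Units.val_mul, hh, hh']
  simp only [add_mul, mul_add, smul_mul_assoc, mul_smul_comm, one_mul, mul_one, smul_add, smul_smul,
    mul_comm a' a, mul_comm b' b, mul_comm a' b, mul_comm b' a]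
  abel

theorem centralizer_eq {g z : GL (Fin 2) F} (hg : Elliptic g) (hz : Elliptic z) (hc : z * g = g * z) :
    Subgroup.centralizer ({z} : Set (GL (Fin 2) F)) = Subgroup.centralizer {g} := by
  ext h
  rw [Subgroup.mem_centralizer_singleton_iff, Subgroup.mem_centralizer_singleton_iff]
  obtain ⟨a, b, hzg⟩ := exists_form_of_commute hg hc
  obtain ⟨a', b', hgz⟩ := exists_form_of_commute hz hc.symm
  constructor
  · intro h1
    obtain ⟨x, y, hh⟩ := exists_form_of_commute hz h1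
    exact commute_of_form hh hgz
  · intro h1
    obtain ⟨x, y, hh⟩ := exists_form_of_commute hg h1
    exact commute_of_form hh hzg

theorem card_centralizer {g : GL (Fin 2) F} (hg : Elliptic g) :
    Nat.card (Subgroup.centralizer ({g} : Set (GL (Fin 2) F))) + 1 = Nat.card F * Nat.card F := by
  classical
  letI := Fintype.ofFinite F
  have hdet : ∀ x : F × F, x ≠ 0 → (x.1 • 1 + x.2 • (g : Matrix (Fin 2) (Fin 2) F)).det ≠ 0 := by
    rintro ⟨a, b⟩ hx hd
    obtain ⟨v, hv, hv'⟩ := Matrix.exists_mulVec_eq_zero_iff.mpr hd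
    rw [add_mulVec, smul_mulVec, smul_mulVec, one_mulVec] at hv'
    by_cases hb : b = 0
    · subst hb
      rw [zero_smul, add_zero] at hv'
      exact hx (Prod.ext ((smul_eq_zero.mp hv').resolve_right hv) rfl)
    · refine hg v hv (mem_lineStab_of_eq hv (c := -b⁻¹ * a) ?_)
      have h2 : b • ((g : Matrix (Fin 2) (Fin 2) F) *ᵥ v) = -(a • v) := eq_neg_of_add_eq_zero_right hv'
      rw [neg_mul, neg_smul, ← smul_smul, ← smul_neg, ← h2, smul_smul, inv_mul_cancel₀ hb, one_smul]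
  let f : {x : F × F // x ≠ 0} → Subgroup.centralizer ({g} : Set (GL (Fin 2) F)) := fun x =>
    ⟨Matrix.GeneralLinearGroup.mkOfDetNeZero _ (hdet x.1 x.2), by
      rw [Subgroup.mem_centralizer_singleton_iff]
      exact commute_of_form (g := g) (a := x.1.1) (b := x.1.2) (a' := 0) (b' := 1) rfl (by simp)⟩
  have hf : Function.Bijective f := by
    constructor
    · rintro ⟨⟨a, b⟩, hx⟩ ⟨⟨a', b'⟩, hy⟩ h
      have h1 : a • (1 : Matrix (Fin 2) (Fin 2) F) + b • (g : Matrix (Fin 2) (Fin 2) F) =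
          a' • 1 + b' • (g : Matrix (Fin 2) (Fin 2) F) :=
        congrArg (fun u : Subgroup.centralizer ({g} : Set (GL (Fin 2) F)) => (u : GL (Fin 2) F).val) h
      by_cases hb : b = b'
      · subst hb
        have h1' : a • (1 : Matrix (Fin 2) (Fin 2) F) = a' • 1 := by
          have h2 := congrArg (· - b • (g : Matrix (Fin 2) (Fin 2) F)) h1
          simpa only [add_sub_cancel_right] using h2
        have := congrFun (congrFun h1' 0) 0
        simp at this
        simp [this]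
      · exfalso
        refine hg (Pi.single 0 1) (by simp) (mem_lineStab_of_eq (by simp) (c := (b - b')⁻¹ * (a' - a)) ?_)
        have h2 := congrArg (· *ᵥ (Pi.single 0 1 : Fin 2 → F)) h1
        simp only [add_mulVec, smul_mulVec, one_mulVec] at h2
        set e := (Pi.single 0 1 : Fin 2 → F)
        set ge := (g : Matrix (Fin 2) (Fin 2) F) *ᵥ e
        have h3 : (b - b') • ge = (a' - a) • e := by
          rw [sub_smul, sub_smul]
          calc b • ge - b' • ge = (a • e + b • ge) - (a • e + b' • ge) := by abel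
            _ = _ := by rw [h2]; abel
        rw [← smul_smul, ← h3, smul_smul, inv_mul_cancel₀ (sub_ne_zero.mpr hb), one_smul]
    · rintro ⟨h, hh⟩
      obtain ⟨a, b, hab⟩ := exists_form_of_commute hg (Subgroup.mem_centralizer_singleton_iff.mp hh)
      have hne : ((a, b) : F × F) ≠ 0 := fun e => by
        simp only [Prod.mk_eq_zero] at e
        rw [e.1, e.2, zero_smul, zero_smul, add_zero] at hab
        exact h.ne_zero hab
      exact ⟨⟨(a, b), hne⟩, Subtype.ext (Units.ext hab.symm)⟩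
  rw [← Nat.card_congr (Equiv.ofBijective f hf), ← Nat.card_prod, Nat.card_eq_fintype_card,
    Nat.card_eq_fintype_card, Fintype.card_subtype_compl, Fintype.card_subtype_eq]
  have : 0 < Fintype.card (F × F) := Fintype.card_pos
  omega

theorem exists_conj_not_mem {g : GL (Fin 2) F} (hg : Elliptic g) (h2 : (2 : F) ≠ 0) :
    ∃ s : GL (Fin 2) F, (s : Matrix (Fin 2) (Fin 2) F).det = 1 ∧
      s * g * s⁻¹ ∉ Subgroup.centralizer ({g} : Set (GL (Fin 2) F)) := by
  have hdet : (!![1, 1; 0, 1] : Matrix (Fin 2) (Fin 2) F).det = 1 := by simp [Matrix.det_fin_two]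
  let s : GL (Fin 2) F := Matrix.GeneralLinearGroup.mkOfDetNeZero !![1, 1; 0, 1]
    (by rw [hdet]; exact one_ne_zero)
  refine ⟨s, hdet, fun hmem => ?_⟩
  obtain ⟨a, b, hab⟩ := exists_form_of_commute hg (Subgroup.mem_centralizer_singleton_iff.mp hmem)
  have h1 : (s : Matrix (Fin 2) (Fin 2) F) * g =
      (a • 1 + b • (g : Matrix (Fin 2) (Fin 2) F)) * s := by
    rw [← hab, ← Units.val_mul _ g, ← Units.val_mul _ s, inv_mul_cancel_right]
  change (!![1, 1; 0, 1] : Matrix (Fin 2) (Fin 2) F) * (g : Matrix (Fin 2) (Fin 2) F) =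
    (a • 1 + b • (g : Matrix (Fin 2) (Fin 2) F)) * !![1, 1; 0, 1] at h1
  have hg10 : (g : Matrix (Fin 2) (Fin 2) F) 1 0 ≠ 0 := fun h0 =>
    hg (Pi.single 0 1) (by simp) (mem_lineStab_of_eq (by simp)
      (c := (g : Matrix (Fin 2) (Fin 2) F) 0 0) (funext fun i => by
        rw [Matrix.mulVec_single_one]
        fin_cases i <;> simp [h0]))
  have e10 := congrFun (congrFun h1 1) 0
  have e11 := congrFun (congrFun h1 1) 1
  have e00 := congrFun (congrFun h1 0) 0
  simp [Matrix.mul_apply, Fin.sum_univ_two] at e10 e11 e00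
  generalize (g : Matrix (Fin 2) (Fin 2) F) = G at *
  have hb : b = 1 := mul_right_cancel₀ hg10 (by rw [one_mul]; linear_combination -e10)
  subst hb
  have ha : a = G 1 0 := by linear_combination -e00
  exact mul_ne_zero h2 hg10 (by linear_combination -e11 + (-1 : F) * ha)

theorem eigen_eq_one {z : GL (Fin 2) F} {v : Fin 2 → F} (hv : v ≠ 0) {N : ℕ} (hN : z ^ N = 1)
    (hcop : N.Coprime (Nat.card F - 1)) {c : F}
    (hc : (z : Matrix (Fin 2) (Fin 2) F) *ᵥ v = c • v) : c = 1 := by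
  letI := Fintype.ofFinite F
  have h1 := pow_mulVec hc N
  rw [hN, Units.val_one, one_mulVec] at h1
  have hcN := eq_one_of_smul_eq hv h1
  have hc0 : c ≠ 0 := fun e => mulVec_ne_zero z hv (by rw [hc, e, zero_smul])
  have hcq : c ^ (Nat.card F - 1) = 1 := by
    rw [Nat.card_eq_fintype_card]; exact FiniteField.pow_card_sub_one_eq_one c hc0
  have := pow_gcd_eq_one.mpr ⟨hcN, hcq⟩
  rwa [hcop, pow_one] at this

theorem elliptic_of_order {z : GL (Fin 2) F} {r : ℕ} (hr : r.Prime) {i : ℕ} (hz : z ^ r ^ i = 1)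
    (hz1 : z ≠ 1) (hrq : ¬ r ∣ Nat.card F - 1) (hrp : (r : F) ≠ 0) : Elliptic z := by
  intro v hv hzv
  obtain ⟨c, -, hc⟩ := hzv
  have hcop : (r ^ i).Coprime (Nat.card F - 1) :=
    Nat.Coprime.pow_left i ((Nat.Prime.coprime_iff_not_dvd hr).mpr hrq)
  rw [eigen_eq_one hv hz hcop hc, one_smul] at hc
  obtain ⟨w, hw⟩ := exists_not_mem_span v
  obtain ⟨α, β, hαβ⟩ := exists_decomp hv hw ((z : Matrix (Fin 2) (Fin 2) F) *ᵥ w)
  have hpow : ∀ j : ℕ, ∃ γ : F, ((z ^ j : GL (Fin 2) F) : Matrix (Fin 2) (Fin 2) F) *ᵥ w =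
      γ • v + β ^ j • w ∧ (β = 1 → γ = j * α) := by
    intro j
    induction j with
    | zero => exact ⟨0, by simp, fun _ => by simp⟩
    | succ j ih =>
      obtain ⟨γ, hγ, hγ'⟩ := ih
      refine ⟨γ + β ^ j * α, ?_, fun hb => ?_⟩
      · rw [pow_succ', Units.val_mul, ← mulVec_mulVec, hγ, mulVec_add, mulVec_smul, mulVec_smul, hc,
          hαβ, smul_add, smul_smul, smul_smul, add_smul, pow_succ, add_assoc]
      · rw [hγ' hb, hb, one_pow, Nat.cast_succ, add_mul, one_mul]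
  obtain ⟨γ, hγ, hγ'⟩ := hpow (r ^ i)
  rw [hz, Units.val_one, one_mulVec] at hγ
  have h1 : γ • v + (β ^ r ^ i - 1) • w = 0 := by
    rw [sub_smul, one_smul, ← add_sub_assoc, ← hγ, sub_self]
  have hβN : β ^ r ^ i = 1 := by
    by_contra hne
    refine hw (Submodule.mem_span_singleton.mpr ⟨-(β ^ r ^ i - 1)⁻¹ * γ, ?_⟩)
    have h2 : γ • v = -((β ^ r ^ i - 1) • w) := eq_neg_of_add_eq_zero_left h1
    rw [neg_mul, neg_smul, ← smul_smul, h2, smul_neg, neg_neg, smul_smul,
      inv_mul_cancel₀ (sub_ne_zero.mpr hne), one_smul]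
  have hβ : β = 1 := by
    letI := Fintype.ofFinite F
    have hβ0 : β ≠ 0 := fun e => by
      rw [e, zero_pow (pow_ne_zero i hr.ne_zero)] at hβN
      exact zero_ne_one hβN
    have hq : β ^ (Nat.card F - 1) = 1 := by
      rw [Nat.card_eq_fintype_card]; exact FiniteField.pow_card_sub_one_eq_one β hβ0
    have := pow_gcd_eq_one.mpr ⟨hβN, hq⟩
    rwa [hcop, pow_one] at this
  rw [hβN, sub_self, zero_smul, add_zero, hγ' hβ] at h1
  have hα : α = 0 := by
    rcases mul_eq_zero.mp ((smul_eq_zero.mp h1).resolve_right hv) with h | h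
    · rw [Nat.cast_pow] at h
      exact absurd h (pow_ne_zero i hrp)
    · exact h
  apply hz1
  refine Units.ext (Matrix.mulVec_injective (funext fun x => ?_))
  obtain ⟨a, b, rfl⟩ := exists_decomp hv hw x
  rw [mulVec_add, mulVec_smul, mulVec_smul, hc, hαβ, hα, hβ]
  simp

/-- A split element. -/
structure Split (a : GL (Fin 2) F) (v w : Fin 2 → F) (t : F) : Prop where
  ne : v ≠ 0
  indep : w ∉ F ∙ v
  det : (a : Matrix (Fin 2) (Fin 2) F).det = 1
  ev : (a : Matrix (Fin 2) (Fin 2) F) *ᵥ v = t • v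
  ew : (a : Matrix (Fin 2) (Fin 2) F) *ᵥ w = t⁻¹ • w
  t0 : t ≠ 0
  tne : t ≠ t⁻¹

theorem exists_split {v w : Fin 2 → F} (hv : v ≠ 0) (hw : w ∉ F ∙ v) {t : F} (ht : t ≠ 0)
    (ht2 : t ≠ t⁻¹) : ∃ a : GL (Fin 2) F, Split a v w t ∧ ∀ N : ℕ, t ^ N = 1 → a ^ N = 1 := by
  let M := colsMat v w
  have hM := det_colsMat_ne_zero hv hw
  let g : GL (Fin 2) F := Matrix.GeneralLinearGroup.mkOfDetNeZero M hM
  have hdd : (Matrix.diagonal ![t, t⁻¹]).det = 1 := by
    simp [Matrix.det_diagonal, Fin.prod_univ_two, ht]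
  let d : GL (Fin 2) F := Matrix.GeneralLinearGroup.mkOfDetNeZero (Matrix.diagonal ![t, t⁻¹])
    (by rw [hdd]; exact one_ne_zero)
  have key : ∀ (i : Fin 2), ((g * d * g⁻¹ : GL (Fin 2) F) : Matrix (Fin 2) (Fin 2) F) *ᵥ
      (M *ᵥ Pi.single i 1) = (![t, t⁻¹] i) • (M *ᵥ Pi.single i 1) := by
    intro i
    rw [show M = (g : Matrix (Fin 2) (Fin 2) F) from rfl, mulVec_mulVec, ← Units.val_mul,
      inv_mul_cancel_right, Units.val_mul, ← mulVec_mulVec, ← mulVec_smul]
    congr 1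
    show Matrix.diagonal ![t, t⁻¹] *ᵥ Pi.single i 1 = _
    rw [Matrix.mulVec_single_one]
    ext j
    fin_cases i <;> fin_cases j <;> simp [Matrix.diagonal]
  have hv0 : M *ᵥ Pi.single 0 1 = v := by rw [colsMat_mulVec]; simp
  have hw1 : M *ᵥ Pi.single 1 1 = w := by rw [colsMat_mulVec]; simp
  refine ⟨g * d * g⁻¹, ⟨hv, hw, by rw [det_conj]; exact hdd, ?_, ?_, ht, ht2⟩, fun N hN => ?_⟩
  · have := key 0
    rwa [hv0] at this
  · have := key 1
    rwa [hw1] at this
  · have hd : d ^ N = 1 := Units.ext (by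
      rw [Units.val_pow_eq_pow_val, Units.val_one]
      show Matrix.diagonal ![t, t⁻¹] ^ N = 1
      rw [Matrix.diagonal_pow, ← Matrix.diagonal_one]
      congr 1
      funext i
      fin_cases i <;> simp [hN, inv_pow])
    rw [conj_pow, hd, mul_one, mul_inv_cancel]

theorem Split.eigen_t {a : GL (Fin 2) F} {v w : Fin 2 → F} {t : F} (h : Split a v w t) {x : Fin 2 → F}
    (hx : (a : Matrix (Fin 2) (Fin 2) F) *ᵥ x = t • x) : x ∈ F ∙ v := by
  obtain ⟨α, β, rfl⟩ := exists_decomp h.ne h.indep x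
  rw [mulVec_add, mulVec_smul, mulVec_smul, h.ev, h.ew, smul_add, smul_comm α t,
    add_right_inj, smul_comm β t⁻¹, ← sub_eq_zero, ← sub_smul] at hx
  rcases smul_eq_zero.mp hx with h1 | h1
  · exact absurd (sub_eq_zero.mp h1).symm h.tne
  · rw [h1, add_zero]; exact Submodule.smul_mem _ _ (Submodule.mem_span_singleton_self v)

theorem Split.eigen_inv {a : GL (Fin 2) F} {v w : Fin 2 → F} {t : F} (h : Split a v w t)
    {x : Fin 2 → F} (hx : (a : Matrix (Fin 2) (Fin 2) F) *ᵥ x = t⁻¹ • x) : x ∈ F ∙ w := by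
  obtain ⟨α, β, rfl⟩ := exists_decomp h.ne h.indep x
  rw [mulVec_add, mulVec_smul, mulVec_smul, h.ev, h.ew, smul_add, smul_comm α t, smul_comm β t⁻¹,
    add_left_inj, ← sub_eq_zero, ← sub_smul] at hx
  rcases smul_eq_zero.mp hx with h1 | h1
  · exact absurd (sub_eq_zero.mp h1) h.tne
  · rw [h1, zero_add]; exact Submodule.smul_mem _ _ (Submodule.mem_span_singleton_self w)

theorem Split.eigen_lines {a : GL (Fin 2) F} {v w : Fin 2 → F} {t : F} (h : Split a v w t)
    {x : Fin 2 → F} (hx : a ∈ lineStab x) : x ∈ F ∙ v ∨ x ∈ F ∙ w := by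
  obtain ⟨c, -, hc⟩ := hx
  obtain ⟨α, β, rfl⟩ := exists_decomp h.ne h.indep x
  by_cases hβ : β = 0
  · left; rw [hβ, zero_smul, add_zero]; exact Submodule.smul_mem _ _ (Submodule.mem_span_singleton_self v)
  · right
    have hc' : (α * t - c * α) • v + (β * t⁻¹ - c * β) • w = 0 := by
      have h2 := hc
      rw [mulVec_add, mulVec_smul, mulVec_smul, h.ev, h.ew, smul_add, smul_smul, smul_smul, smul_smul,
        smul_smul] at h2
      rw [sub_smul, sub_smul, sub_add_sub_comm, h2, sub_self]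
    have h3 : β * t⁻¹ - c * β = 0 := by
      by_contra hne
      refine h.indep (Submodule.mem_span_singleton.mpr ⟨-(β * t⁻¹ - c * β)⁻¹ * (α * t - c * α), ?_⟩)
      have h4 := eq_neg_of_add_eq_zero_left hc'
      rw [neg_mul, neg_smul, ← smul_smul, h4, smul_neg, neg_neg, smul_smul, inv_mul_cancel₀ hne,
        one_smul]
    have hct : c = t⁻¹ := by
      have : β * (t⁻¹ - c) = 0 := by linear_combination h3
      exact (sub_eq_zero.mp ((mul_eq_zero.mp this).resolve_left hβ)).symm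
    exact h.eigen_inv (hct ▸ hc)

theorem mulVec_smul_comm_of_commute {a y : GL (Fin 2) F} (hc : y * a = a * y) {x : Fin 2 → F} {s : F}
    (hx : (a : Matrix (Fin 2) (Fin 2) F) *ᵥ x = s • x) :
    (a : Matrix (Fin 2) (Fin 2) F) *ᵥ ((y : Matrix (Fin 2) (Fin 2) F) *ᵥ x) =
      s • ((y : Matrix (Fin 2) (Fin 2) F) *ᵥ x) := by
  rw [mulVec_mulVec, ← Units.val_mul, ← hc, Units.val_mul, ← mulVec_mulVec, hx, mulVec_smul]

theorem Split.commute_fix {a y : GL (Fin 2) F} {v w : Fin 2 → F} {t : F} (h : Split a v w t)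
    (hc : y * a = a * y) : y ∈ lineStab v ∧ y ∈ lineStab w := by
  obtain ⟨c, hc'⟩ := Submodule.mem_span_singleton.mp (h.eigen_t (mulVec_smul_comm_of_commute hc h.ev))
  obtain ⟨d, hd'⟩ := Submodule.mem_span_singleton.mp (h.eigen_inv (mulVec_smul_comm_of_commute hc h.ew))
  have hw0 : w ≠ 0 := fun e => h.indep (e ▸ zero_mem _)
  exact ⟨mem_lineStab_of_eq h.ne hc'.symm, mem_lineStab_of_eq hw0 hd'.symm⟩

/-- A nilpotent group containing a split element of odd prime order fixes both lines. -/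
theorem le_lineStab_of_split (X : Subgroup (GL (Fin 2) F)) [Group.IsNilpotent X]
    {a : GL (Fin 2) F} {v w : Fin 2 → F} {t : F} (h : Split a v w t) (ha : a ∈ X)
    {r : ℕ} [Fact r.Prime] (hr2 : r ≠ 2) (har : a ^ r = 1) :
    X ≤ lineStab v ⊓ lineStab w := by
  set B := X ⊓ (lineStab v ⊓ lineStab w) with hB
  by_contra hne
  have hBtop : B.subgroupOf X ≠ ⊤ := fun e => hne fun x hx =>
    (Subgroup.mem_inf.mp (Subgroup.subgroupOf_eq_top.mp e hx)).2
  obtain ⟨⟨y, hyX⟩, hyN, hyB⟩ := SetLike.exists_of_lt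
    (Group.normalizerCondition_of_isNilpotent (G := X) (B.subgroupOf X) (lt_top_iff_ne_top.mpr hBtop))
  have hw0 : w ≠ 0 := fun e => h.indep (e ▸ zero_mem _)
  have haB : a ∈ B := Subgroup.mem_inf.mpr ⟨ha, Subgroup.mem_inf.mpr
    ⟨mem_lineStab_of_eq h.ne h.ev, mem_lineStab_of_eq hw0 h.ew⟩⟩
  have hyaB : y⁻¹ * a * y ∈ B := by
    have h1 := (Subgroup.mem_normalizer_iff.mp (inv_mem hyN) ⟨a, ha⟩).mp haB
    simpa [Subgroup.mem_subgroupOf] using h1
  have hlines : ∀ x, y⁻¹ * a * y ∈ lineStab x →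
      (y : Matrix (Fin 2) (Fin 2) F) *ᵥ x ∈ F ∙ v ∨ (y : Matrix (Fin 2) (Fin 2) F) *ᵥ x ∈ F ∙ w := by
    rintro x ⟨c, hc0, hc⟩
    refine h.eigen_lines ⟨c, hc0, ?_⟩
    have h1 : a * y = y * (y⁻¹ * a * y) := by group
    rw [mulVec_mulVec, ← Units.val_mul, h1, Units.val_mul, ← mulVec_mulVec, hc, mulVec_smul]
  obtain ⟨hyav, hyaw⟩ := Subgroup.mem_inf.mp (Subgroup.mem_inf.mp hyaB).2
  have hindep : ∀ z : Fin 2 → F, (y : Matrix (Fin 2) (Fin 2) F) *ᵥ v ∈ F ∙ z →
      (y : Matrix (Fin 2) (Fin 2) F) *ᵥ w ∉ F ∙ z := by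
    intro z hzv hzw
    obtain ⟨c, hc⟩ := Submodule.mem_span_singleton.mp hzv
    obtain ⟨d, hd⟩ := Submodule.mem_span_singleton.mp hzw
    have hc0 : c ≠ 0 := fun e => mulVec_ne_zero y h.ne (by rw [← hc, e, zero_smul])
    refine h.indep (Submodule.mem_span_singleton.mpr ⟨d / c, ?_⟩)
    have h1 : (y : Matrix (Fin 2) (Fin 2) F) *ᵥ ((d / c) • v) = (y : Matrix (Fin 2) (Fin 2) F) *ᵥ w := by
      rw [mulVec_smul, ← hc, smul_smul, div_mul_cancel₀ d hc0, hd]
    have := congrArg (((y⁻¹ : GL (Fin 2) F) : Matrix (Fin 2) (Fin 2) F) *ᵥ ·) h1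
    simp only [mulVec_mulVec, ← Units.val_mul, inv_mul_cancel, Units.val_one, one_mulVec] at this
    exact this
  have hy2 : y * y ∈ B ∧ y ∉ lineStab v := by
    rcases hlines v hyav with hv1 | hv1
    · exfalso
      have hw1 := (hlines w hyaw).resolve_left (hindep v hv1)
      obtain ⟨c, hc⟩ := Submodule.mem_span_singleton.mp hv1
      obtain ⟨d, hd⟩ := Submodule.mem_span_singleton.mp hw1
      exact hyB (Subgroup.mem_inf.mpr ⟨hyX, Subgroup.mem_inf.mpr
        ⟨mem_lineStab_of_eq h.ne hc.symm, mem_lineStab_of_eq hw0 hd.symm⟩⟩)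
    · have hw1 := (hlines w hyaw).resolve_right (hindep w hv1)
      obtain ⟨c, hc⟩ := Submodule.mem_span_singleton.mp hv1
      obtain ⟨d, hd⟩ := Submodule.mem_span_singleton.mp hw1
      refine ⟨Subgroup.mem_inf.mpr ⟨mul_mem hyX hyX, Subgroup.mem_inf.mpr
        ⟨mem_lineStab_of_eq h.ne (c := c * d) ?_, mem_lineStab_of_eq hw0 (c := d * c) ?_⟩⟩, ?_⟩
      · rw [Units.val_mul, ← mulVec_mulVec, ← hc, mulVec_smul, ← hd, smul_smul]
      · rw [Units.val_mul, ← mulVec_mulVec, ← hd, mulVec_smul, ← hc, smul_smul]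
      · rintro ⟨e, he0, he⟩
        have h5 : c • w = e • v := hc.trans he
        refine h.indep (Submodule.mem_span_singleton.mpr ⟨e / c, ?_⟩)
        have hc0 : c ≠ 0 := fun h0 => mulVec_ne_zero y h.ne (by rw [← hc, h0, zero_smul])
        rw [div_eq_inv_mul, ← smul_smul, ← h5, smul_smul, inv_mul_cancel₀ hc0, one_smul]
  obtain ⟨e, o, ho, hyo⟩ := Nat.exists_eq_two_pow_mul_odd (orderOf_pos y).ne'
  have hyo' : y ^ o ∉ lineStab v := by
    obtain ⟨i, rfl⟩ := ho
    rw [pow_succ, pow_mul, pow_two]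
    intro hmem
    exact hy2.2 (by
      simpa using mul_mem (inv_mem (pow_mem (Subgroup.mem_inf.mp (Subgroup.mem_inf.mp hy2.1).2).1 i)) hmem)
  haveI : Fact (Nat.Prime 2) := ⟨Nat.prime_two⟩
  have hc := commute_of_isNilpotent X (p := 2) (q := r) hr2.symm (pow_mem hyX o) ha
    ⟨e, by rw [← pow_mul, mul_comm, ← hyo, pow_orderOf_eq_one]⟩ ⟨1, by rw [pow_one, har]⟩
  exact hyo' (h.commute_fix hc).1

end Cfsg.Agent.Lib.LinCover
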