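import Mathlib
import Cfsg.Agent.Lib.LinCover.Two

/-!
No group between `PSL` and `PGL` has a nilpotent minimal cover.
-/

set_option autoImplicit false

open Matrix
open scoped LinearAlgebra.Projectivization

namespace Cfsg.Agent.Lib.LinCover

variable {F : Type*} [Field F] [Finite F]

theorem rep_not_mem_span {n : ℕ} {P Q : ℙ F (Fin n → F)} (h : Q ≠ P) : Q.rep ∉ F ∙ P.rep :=
  fun h' => h (Setup.eq_of_mem_span h')

namespace Setup

theorem false_of_split (S : Setup F 2) (hq : 4 ≤ Nat.card F) {r : ℕ} [Fact r.Prime] (hr2 : r ≠ 2)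
    (hrq : r ∣ Nat.card F - 1) : False := by
  classical
  letI := Fintype.ofFinite F
  letI : Fintype (ℙ F (Fin 2 → F)) := Fintype.ofFinite _
  obtain ⟨t, ht⟩ := exists_prime_orderOf_dvd_card' (G := Fˣ) r (by rwa [Nat.card_units])
  have htr : (t : F) ^ r = 1 := by
    rw [← Units.val_pow_eq_pow_val, ← ht, pow_orderOf_eq_one, Units.val_one]
  have ht2 : (t : F) ≠ (t : F)⁻¹ := by
    intro e
    have h1 : t * t = 1 := Units.ext (by
      rw [Units.val_mul, Units.val_one]
      nth_rewrite 2 [e]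
      exact mul_inv_cancel₀ t.ne_zero)
    have h2 : orderOf t ∣ 2 := orderOf_dvd_of_pow_eq_one (by rw [sq, h1])
    rw [ht] at h2
    exact hr2 ((Nat.prime_dvd_prime_iff_eq Fact.out Nat.prime_two).mp h2)
  choose a ha haN using fun (p : {p : ℙ F (Fin 2 → F) × ℙ F (Fin 2 → F) // p.1 ≠ p.2}) =>
    exists_split p.1.1.rep_nonzero (rep_not_mem_span p.2.symm) t.ne_zero ht2
  choose A hA hmem using fun p => S.exists_member (ha p).det
  have hle : ∀ p, S.pre (A p) ≤ lineStab p.1.1.rep ⊓ lineStab p.1.2.rep := fun p => by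
    haveI := S.pre_isNilpotent (hA p)
    exact le_lineStab_of_split _ (ha p) (hmem p) hr2 (haN p r htr)
  have hsub : ∀ p p', A p = A p' →
      ({p.1.1, p.1.2} : Finset (ℙ F (Fin 2 → F))) = {p'.1.1, p'.1.2} := by
    intro p p' h
    refine Finset.eq_of_subset_of_card_le (fun X hX => ?_) (by rw [Finset.card_pair p.2, Finset.card_pair p'.2])
    have hm : a p' ∈ S.pre (A p) := h ▸ hmem p'
    have hfix : a p' ∈ lineStab X.rep := by
      rcases Finset.mem_insert.mp hX with rfl | hX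
      · exact (hle p hm).1
      · rw [Finset.mem_singleton] at hX; subst hX; exact (hle p hm).2
    rcases (ha p').eigen_lines hfix with h1 | h1
    · rw [Setup.eq_of_mem_span h1]; exact Finset.mem_insert_self _ _
    · rw [Setup.eq_of_mem_span h1]; exact Finset.mem_insert_of_mem (Finset.mem_singleton_self _)
  -- four points
  let P₀ : ℙ F (Fin 2 → F) := Projectivization.mk F ![1, 0] (by simp)
  let X : F → ℙ F (Fin 2 → F) := fun c => Projectivization.mk F ![c, 1] (by simp)
  have hX : ∀ c, X c ≠ P₀ := fun c e => by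
    obtain ⟨b, hb⟩ := (Projectivization.mk_eq_mk_iff' F _ _ (by simp) (by simp)).mp e
    have := congrFun hb 1
    simp at this
  have hXinj : Function.Injective X := fun c c' e => by
    obtain ⟨b, hb⟩ := (Projectivization.mk_eq_mk_iff' F _ _ (by simp) (by simp)).mp e
    have h1 := congrFun hb 1
    have h0 := congrFun hb 0
    simp at h0 h1
    rw [h1, one_mul] at h0
    exact h0.symm
  have ht1 : (t : F) ≠ 1 := fun e => ht2 (by rw [e, inv_one])
  have h01 : X 0 ≠ X 1 := fun e => zero_ne_one (hXinj e)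
  have h0t : X 0 ≠ X (t : F) := fun e => t.ne_zero (hXinj e).symm
  have h1t : X 1 ≠ X (t : F) := fun e => ht1 (hXinj e).symm
  let pr : Option (ℙ F (Fin 2 → F)) → {p : ℙ F (Fin 2 → F) × ℙ F (Fin 2 → F) // p.1 ≠ p.2} :=
    fun o => o.elim ⟨(X 0, X 1), h01⟩ fun x =>
      if hx : x = P₀ then ⟨(X 0, X t), h0t⟩ else ⟨(P₀, x), Ne.symm hx⟩
  refine S.false_of_points le_rfl (fun o => A (pr o)) (fun o => hA _) (fun o o' h => ?_)
    (fun o => ⟨(pr o).1.1, fun x hx => (hle _ hx).1⟩)
    (by rw [Fintype.card_option, Nat.card_eq_fintype_card]; omega)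
  have hs := hsub _ _ h
  rcases o with _ | x <;> rcases o' with _ | x'
  · rfl
  · exfalso
    by_cases hx : x' = P₀
    · simp only [pr, Option.elim, dif_pos hx] at hs
      have : X 1 ∈ ({X 0, X (t : F)} : Finset _) := hs ▸ by simp
      simp [h01.symm, h1t] at this
    · simp only [pr, Option.elim, dif_neg hx] at hs
      have : P₀ ∈ ({X 0, X 1} : Finset _) := hs.symm ▸ by simp
      simp [(hX 0).symm, (hX 1).symm] at this
  · exfalso
    by_cases hx : x = P₀
    · simp only [pr, Option.elim, dif_pos hx] at hs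
      have : X 1 ∈ ({X 0, X (t : F)} : Finset _) := hs.symm ▸ by simp
      simp [h01.symm, h1t] at this
    · simp only [pr, Option.elim, dif_neg hx] at hs
      have : P₀ ∈ ({X 0, X 1} : Finset _) := hs ▸ by simp
      simp [(hX 0).symm, (hX 1).symm] at this
  · by_cases hx : x = P₀ <;> by_cases hx' : x' = P₀
    · rw [hx, hx']
    · exfalso
      simp only [pr, Option.elim, dif_pos hx, dif_neg hx'] at hs
      have : P₀ ∈ ({X 0, X (t : F)} : Finset _) := hs.symm ▸ by simp
      simp [(hX 0).symm, (hX (t : F)).symm] at this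
    · exfalso
      simp only [pr, Option.elim, dif_neg hx, dif_pos hx'] at hs
      have : P₀ ∈ ({X 0, X (t : F)} : Finset _) := hs ▸ by simp
      simp [(hX 0).symm, (hX (t : F)).symm] at this
    · simp only [pr, Option.elim, dif_neg hx, dif_neg hx'] at hs
      have : x ∈ ({P₀, x'} : Finset _) := hs ▸ by simp
      simp [hx] at this
      rw [this]

theorem false_of_power_two (S : Setup F 2) (hq : 4 ≤ Nat.card F)
    (hno : ∀ r : ℕ, r.Prime → r ∣ Nat.card F - 1 → r = 2) : False := by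
  classical
  letI := Fintype.ofFinite F
  obtain ⟨p, hp⟩ := CharP.exists F
  haveI hpF : Fact p.Prime := ⟨CharP.char_is_prime F p⟩
  obtain ⟨f, -, hf⟩ := FiniteField.card F p
  rw [← Nat.card_eq_fintype_card] at hf
  set q := Nat.card F with hqdef
  obtain ⟨e, he⟩ : ∃ e, q - 1 = 2 ^ e :=
    ⟨_, Nat.eq_prime_pow_of_unique_prime_dvd (by omega) fun {d} hd hdd => hno d hd hdd⟩
  have he2 : 2 ≤ e := by
    by_contra h
    have := Nat.pow_le_pow_right (show 0 < 2 by norm_num) (show e ≤ 1 by omega)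
    omega
  have hqo : ¬ 2 ∣ q := by
    intro h
    have : 2 ∣ 2 ^ e := dvd_pow_self 2 (by omega)
    omega
  have hp2 : p ≠ 2 := fun e' => hqo (hf ▸ e' ▸ dvd_pow_self p f.2.ne')
  have h2F : (2 : F) ≠ 0 := by
    intro h
    rw [show (2 : F) = ((2 : ℕ) : F) by norm_num, CharP.cast_eq_zero_iff F p] at h
    exact hp2 ((Nat.prime_dvd_prime_iff_eq hpF.out Nat.prime_two).mp h)
  -- a prime dividing `q + 1`
  obtain ⟨r, hr, hr2, hrq1⟩ : ∃ r, r.Prime ∧ r ≠ 2 ∧ r ∣ q + 1 := by
    obtain ⟨e', rfl⟩ : ∃ e', e = e' + 2 := ⟨e - 2, by omega⟩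
    have hq1 : q + 1 = 2 * (2 * 2 ^ e' + 1) := by
      have : 2 ^ (e' + 2) = 4 * 2 ^ e' := by ring
      omega
    obtain ⟨r, hr, hrd⟩ := Nat.exists_prime_and_dvd (show 2 * 2 ^ e' + 1 ≠ 1 by have := Nat.one_le_two_pow (n := e'); omega)
    refine ⟨r, hr, fun h => ?_, hq1 ▸ dvd_mul_of_dvd_right hrd _⟩
    subst h
    omega
  haveI := Fact.mk hr
  have hrqm : ¬ r ∣ q - 1 := fun h => hr2 ((Nat.prime_dvd_prime_iff_eq hr Nat.prime_two).mp
    (hr.dvd_of_dvd_pow (he ▸ h : r ∣ 2 ^ e)))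
  have hrp : (r : F) ≠ 0 := by
    intro h
    rw [CharP.cast_eq_zero_iff F p, Nat.prime_dvd_prime_iff_eq hpF.out hr] at h
    subst h
    have h1 : p ∣ q := hf ▸ dvd_pow_self p f.2.ne'
    have := Nat.dvd_sub hrq1 h1
    rw [Nat.add_sub_cancel_left] at this
    exact hr.ne_one (Nat.dvd_one.mp this)
  -- the non-split tori
  let 𝒯 : Finset (Subgroup (GL (Fin 2) F)) :=
    Finset.univ.filter fun C => ∃ g, Elliptic g ∧ C = Subgroup.centralizer {g}
  have hb : ∀ C : 𝒯, ∃ b : GL (Fin 2) F, (b : Matrix (Fin 2) (Fin 2) F).det = 1 ∧ Elliptic b ∧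
      (C : Subgroup (GL (Fin 2) F)) = Subgroup.centralizer {b} ∧ b ^ r = 1 ∧ b ≠ 1 := by
    rintro ⟨C, hC⟩
    obtain ⟨g, hg, rfl⟩ := (Finset.mem_filter.mp hC).2
    have hcard := card_centralizer hg
    obtain ⟨b, hb⟩ := exists_prime_orderOf_dvd_card'
      (G := Subgroup.centralizer ({g} : Set (GL (Fin 2) F))) r (by
        have : Nat.card (Subgroup.centralizer ({g} : Set (GL (Fin 2) F))) = (q + 1) * (q - 1) := by
          rw [← Nat.sq_sub_sq, one_pow, sq, hqdef]; omega
        rw [this]; exact dvd_mul_of_dvd_left hrq1 _)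
    rw [← Subgroup.orderOf_coe] at hb
    have hbr : (b : GL (Fin 2) F) ^ r = 1 := hb ▸ pow_orderOf_eq_one _
    have hb1 : (b : GL (Fin 2) F) ≠ 1 := fun h => hr.ne_one (by rw [← hb, h, orderOf_one])
    have hbE : Elliptic (b : GL (Fin 2) F) :=
      elliptic_of_order hr (i := 1) (by rw [pow_one]; exact hbr) hb1 hrqm hrp
    refine ⟨b, ?_, hbE, (centralizer_eq hg hbE (Subgroup.mem_centralizer_singleton_iff.mp b.2)).symm, hbr, hb1⟩
    set d := ((b : GL (Fin 2) F) : Matrix (Fin 2) (Fin 2) F).det with hd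
    have hdr : d ^ r = 1 := by
      rw [hd, ← Matrix.det_pow, ← Units.val_pow_eq_pow_val, hbr, Units.val_one, Matrix.det_one]
    have hd0 : d ≠ 0 := fun h => by rw [h, zero_pow hr.ne_zero] at hdr; exact zero_ne_one hdr
    have hdq : d ^ (q - 1) = 1 := by
      rw [hqdef, Nat.card_eq_fintype_card]; exact FiniteField.pow_card_sub_one_eq_one d hd0
    have := pow_gcd_eq_one.mpr ⟨hdr, hdq⟩
    rwa [(hr.coprime_iff_not_dvd.mpr hrqm : r.gcd (q - 1) = 1), pow_one] at this
  choose b hbdet hbE hbC hbr hb1 using hb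
  choose B hB hBmem using fun C => S.exists_member (hbdet C)
  obtain ⟨A, A', u, hA, -, hmem, hu, hle, -, hinj, -⟩ := S.exists_uni_members p
  -- one split element
  obtain ⟨g₀, hg₀⟩ := IsCyclic.exists_ofOrder_eq_natCard (α := Fˣ)
  have hg₀q : orderOf g₀ = q - 1 := by rw [hg₀, Nat.card_units]
  have htN : (g₀ : F) ^ 2 ^ e = 1 := by
    rw [← Units.val_pow_eq_pow_val, ← he, ← hg₀q, pow_orderOf_eq_one, Units.val_one]
  have ht2 : (g₀ : F) ≠ (g₀ : F)⁻¹ := by
    intro h
    have h1 : g₀ * g₀ = 1 := Units.ext (by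
      rw [Units.val_mul, Units.val_one]
      nth_rewrite 2 [h]
      exact mul_inv_cancel₀ g₀.ne_zero)
    have h2 := Nat.le_of_dvd two_pos (orderOf_dvd_of_pow_eq_one (x := g₀) (n := 2) (by rw [sq, h1]))
    omega
  obtain ⟨w₀, hw₀⟩ := exists_not_mem_span (F := F) (Pi.single 0 1)
  obtain ⟨a, ha, haN⟩ := exists_split (v := Pi.single 0 1) (by simp) hw₀ g₀.ne_zero ht2
  obtain ⟨D, hD, haD⟩ := S.exists_member ha.det
  letI : Fintype (ℙ F (Fin 2 → F)) := Fintype.ofFinite _
  let ι := (ℙ F (Fin 2 → F) ⊕ 𝒯) ⊕ Unit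
  let fm : ι → Subgroup S.G := Sum.elim (Sum.elim A B) fun _ => D
  have hAB : ∀ P C, A P ≠ B C := fun P C h =>
    hbE C P.rep P.rep_nonzero (hle P (h ▸ hBmem C))
  have hAD : ∀ P, A P ≠ D := by
    intro P h
    haveI := S.pre_isNilpotent (hA P)
    haveI : Fact (Nat.Prime 2) := ⟨Nat.prime_two⟩
    have hc := commute_of_isNilpotent (S.pre (A P)) (p := p) (q := 2) hp2 (hmem P) (h ▸ haD)
      (hu P).pow ⟨e, haN _ htN⟩
    obtain ⟨h1, h2⟩ := ha.commute_fix hc
    have h3 := (hu P).eigen (by simp) h1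
    have hw0 : w₀ ≠ 0 := fun e => hw₀ (by rw [e]; exact zero_mem _)
    have h4 := (hu P).eigen hw0 h2
    obtain ⟨c, hc3⟩ := Submodule.mem_span_singleton.mp h3
    obtain ⟨d, hd4⟩ := Submodule.mem_span_singleton.mp h4
    have hc0 : c ≠ 0 := fun e => by
      rw [e, zero_smul] at hc3
      exact (by simp : (Pi.single 0 1 : Fin 2 → F) ≠ 0) hc3.symm
    refine hw₀ (Submodule.mem_span_singleton.mpr ⟨d / c, ?_⟩)
    rw [← hc3, smul_smul, div_mul_cancel₀ d hc0, hd4]
  have hBinj : Function.Injective B := by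
    intro C C' h
    haveI := S.pre_isNilpotent (hB C)
    obtain ⟨R, hRX, hR, -, hRmem⟩ := exists_sylow_of_isNilpotent (S.pre (B C)) r
    have hbR : b C ∈ R := hRmem _ (hBmem C) ⟨1, by rw [pow_one]; exact hbr C⟩
    have hbR' : b C' ∈ R := hRmem _ (h ▸ hBmem C') ⟨1, by rw [pow_one]; exact hbr C'⟩
    have : Nontrivial R := ⟨⟨⟨b C, hbR⟩, 1, fun e => hb1 C (congrArg Subtype.val e)⟩⟩
    have := hR.center_nontrivial
    obtain ⟨⟨z, hz⟩, hz1⟩ := exists_ne (1 : Subgroup.center R)
    obtain ⟨i, hi⟩ := hR z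
    have hzE : Elliptic (z : GL (Fin 2) F) := elliptic_of_order hr (i := i)
      (by simpa using congrArg Subtype.val hi) (fun e => hz1 (Subtype.ext (Subtype.ext e))) hrqm hrp
    have hzc : ∀ x ∈ R, (z : GL (Fin 2) F) * x = x * z := fun x hx =>
      (congrArg Subtype.val (Subgroup.mem_center_iff.mp hz ⟨x, hx⟩)).symm
    apply Subtype.ext
    rw [hbC C, hbC C', ← centralizer_eq (hbE C) hzE (hzc _ hbR),
      centralizer_eq (hbE C') hzE (hzc _ hbR')]
  have hBD : ∀ C, B C ≠ D := by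
    intro C h
    haveI := S.pre_isNilpotent (hB C)
    haveI : Fact (Nat.Prime 2) := ⟨Nat.prime_two⟩
    have hc := commute_of_isNilpotent (S.pre (B C)) (p := r) (q := 2) hr2 (hBmem C) (h ▸ haD)
      ⟨1, by rw [pow_one]; exact hbr C⟩ ⟨e, haN _ htN⟩
    exact hbE C _ (by simp) (ha.commute_fix hc).1
  have hfinj : Function.Injective fm := by
    rintro ((P | C) | _) ((Q | C') | _) h <;> simp only [fm, Sum.elim_inl, Sum.elim_inr] at h
    · rw [hinj h]
    · exact absurd h (hAB P C')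
    · exact absurd h (hAD P)
    · exact absurd h.symm (hAB Q C)
    · rw [hBinj h]
    · exact absurd h (hBD C)
    · exact absurd h.symm (hAD Q)
    · exact absurd h.symm (hBD C')
    · rfl
  refine false_of_small S.proper S.cover S.minimal fm ?_ hfinj
    (Finset.univ.image S.pointStab ∪
      Finset.univ.image (fun C : 𝒯 => S.down (Subgroup.normalizer ((C : Subgroup (GL (Fin 2) F)) : Set (GL (Fin 2) F)))))
    ?_ ?_ ?_
  · rintro ((P | C) | _)
    exacts [hA P, hB C, hD]
  · intro H hH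
    rcases Finset.mem_union.mp hH with h | h
    · obtain ⟨P, -, rfl⟩ := Finset.mem_image.mp h
      exact S.pointStab_ne_top le_rfl P
    · obtain ⟨⟨C, hC⟩, -, rfl⟩ := Finset.mem_image.mp h
      obtain ⟨g, hg, rfl⟩ := (Finset.mem_filter.mp hC).2
      obtain ⟨s, hs, hs'⟩ := exists_conj_not_mem hg h2F
      refine S.down_ne_top ?_ hs fun hmem => hs' ?_
      · intro z hz
        rw [Subgroup.mem_normalizer_iff]
        intro x
        rw [← Subgroup.mem_center_iff.mp hz x, mul_inv_cancel_right]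
      · exact (Subgroup.mem_normalizer_iff.mp hmem g).mp (Subgroup.mem_centralizer_singleton_iff.mpr rfl)
  · intro i g _
    obtain ⟨x, hx⟩ := QuotientGroup.mk'_surjective _ g.val
    by_cases hE : Elliptic x
    · refine ⟨_, Finset.mem_union_right _ (Finset.mem_image_of_mem _ (Finset.mem_univ
        (⟨Subgroup.centralizer {x}, Finset.mem_filter.mpr ⟨Finset.mem_univ _, x, hE, rfl⟩⟩ : 𝒯))),
        S.mem_down g hx ?_⟩
      exact Subgroup.le_normalizer (Subgroup.mem_centralizer_singleton_iff.mpr rfl)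
    · simp only [Elliptic, not_forall, not_not] at hE
      obtain ⟨v, hv, hxv⟩ := hE
      exact ⟨_, Finset.mem_union_left _ (Finset.mem_image_of_mem _ (Finset.mem_univ
        (Projectivization.mk F v hv))), S.mem_down g hx (Setup.mem_lineStab_mk hv hxv)⟩
  · refine lt_of_le_of_lt ((Finset.card_union_le _ _).trans
      (Nat.add_le_add Finset.card_image_le Finset.card_image_le)) ?_
    simp [ι, Fintype.card_sum]

theorem false_two (S : Setup F 2) (hq : 4 ≤ Nat.card F) : False := by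
  by_cases h : ∀ r : ℕ, r.Prime → r ∣ Nat.card F - 1 → r = 2
  · exact S.false_of_power_two hq h
  · push Not at h
    obtain ⟨r, hr, hrd, hr2⟩ := h
    haveI := Fact.mk hr
    exact S.false_of_split hq hr2 hrd

end Setup

end Cfsg.Agent.Lib.LinCover
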